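import Groth.Agent.Curves.K331.Point
import Groth.Agent.CurvesC.DualInvSec
import Groth.Agent.VarietyA.GlobGen
import Groth.Agent.VarietyA.StalkCrit
import Groth.Agent.CycB.CohStalk
import Groth.Agent.CycB.CohProp
import Groth.Agent.PerfA.IdealModule
import Groth.Agent.Ega2.TensMon

/-!
# A criterion for global generation in dimension one

`isGloballyGenerated_of_vanishing`: a coherent module `F` on a Noetherian scheme of dimension `≤ 1` is globally
generated as soon as `H^1(X, F ⊗ I_p) = 0` for every closed point `p`.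
-/

set_option autoImplicit false
universe u
open CategoryTheory CategoryTheory.Limits AlgebraicGeometry Opposite TopologicalSpace

namespace K331.GGCrit

open Groth.Agent.CycB.StalkExact Groth.Agent.VarietyA.StalkCrit Groth.Agent.CohqB.HSeqMod
open Groth.Agent.CurvesB.HZero Groth.Agent.Ega2.Tens Groth.Agent.CohqB.QC2
open Groth.Agent.PerfA

variable {X : Scheme.{u}}

/-- If `F` is not globally generated, then at some closed point the germs of global sections lie in a proper
submodule of the stalk. -/
theorem exists_closed_of_not_gg [CompactSpace X] (F : X.Modules) (hF : Coh.IsCoh F)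
    (h : ¬ Curv2.IsGloballyGenerated F) : ∃ w : X, IsClosed ({w} : Set X) ∧
      ∃ N : Submodule (X.presheaf.stalk w) (F.presheaf.stalk w), N ≠ ⊤ ∧
        ∀ t : Γ(F, ⊤), F.presheaf.germ ⊤ w trivial t ∈ N := by
  let I : Type u := Γ(F, ⊤)
  let P : X.Modules := SheafOfModules.free I
  let p : P ⟶ F := (SheafOfModules.freeHomEquiv F).symm fun t => Groth.Agent.VarietyA.GlobGen.sectionsOf t
  have hgerm : ∀ (t : Γ(F, ⊤)) (x : X), ∃ m, stalkLin p x m = F.presheaf.germ ⊤ x trivial t := by
    intro t x
    have h1 : SheafOfModules.sectionsMap p (SheafOfModules.freeSection t) =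
        Groth.Agent.VarietyA.GlobGen.sectionsOf t :=
      SheafOfModules.sectionsMap_freeHomEquiv_symm_freeSection _ _
    have h2 : p.app ⊤ ((SheafOfModules.freeSection (R := X.ringCatSheaf) t).1 (op ⊤)) = t := by
      have h3 := congrArg (fun s : SheafOfModules.sections F => s.1 (op ⊤)) h1
      refine (h3.trans ?_ : _)
      change F.presheaf.map (𝟙 _) t = t
      rw [CategoryTheory.Functor.map_id]
      rfl
    refine ⟨P.presheaf.germ ⊤ x trivial
      ((SheafOfModules.freeSection (R := X.ringCatSheaf) t).1 (op ⊤)), ?_⟩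
    refine (stalkLin_germ p x (U := ⊤) trivial _).trans ?_
    exact congrArg _ h2
  have hne : (CohB1.support (cokernel p)).Nonempty := by
    by_contra hem
    apply h
    refine ⟨I, p, ?_⟩
    refine epi_of_stalks p fun x => ?_
    rw [← subsingleton_cokernel_stalk_iff]
    by_contra hx
    exact hem ⟨x, hx⟩
  have hFT : CohB1.IsFT (cokernel p) :=
    Groth.Agent.CohqB.LocalQC.isFT_of_epi (cokernel.π p) hF.2
  obtain ⟨w, hw, hwc⟩ := (Groth.Agent.VarietyA.GlobGen.isClosed_support _ hFT).exists_closed_singleton hne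
  refine ⟨w, hwc, LinearMap.range (stalkLin p w), ?_, fun t => ?_⟩
  · intro hr
    exact hw ((subsingleton_cokernel_stalk_iff p w).mpr (LinearMap.range_eq_top.mp hr))
  · obtain ⟨m, hm⟩ := hgerm t w
    exact ⟨m, hm⟩

/-- The multiplication map `F ⊗ I ⟶ F`. -/
noncomputable def mu (F : X.Modules) (Z : X.IdealSheafData) : CohB1.tensorMod F (ClSub.idealMod Z) ⟶ F :=
  mapT (𝟙 F) (ClSub.idealModι Z) ≫ (runit F).hom

theorem mu_tmul (F : X.Modules) (Z : X.IdealSheafData) {U : X.Opens} (m : Γ(F, U))
    (n : Γ(ClSub.idealMod Z, U)) : (mu F Z).app U (tmul m n) = IdealModule.val Z n • m := by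
  change (runit F).hom.app U ((mapT (𝟙 F) (ClSub.idealModι Z)).app U (tmul m n)) = _
  rw [mapT_tmul]
  exact runit_hom_tmul (IdealModule.val Z n) m

/-- Functions in the ideal vanish at the points of the support. -/
theorem germ_val_mem (Z : X.IdealSheafData) {U : X.Opens} (w : X) (hw : w ∈ U) (hwZ : w ∈ Z.support)
    (n : Γ(ClSub.idealMod Z, U)) :
    X.presheaf.germ U w hw (IdealModule.val Z n) ∈ IsLocalRing.maximalIdeal (X.presheaf.stalk w) := by
  rw [Groth.Agent.CurvesB.SepPoints.germ_mem_maximalIdeal_iff]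
  intro hmem
  obtain ⟨z, rfl⟩ : ∃ z, Z.subschemeι z = w := by
    have : w ∈ (Z.support : Set X) := hwZ
    rw [← Scheme.IdealSheafData.range_subschemeι] at this
    exact this
  have h0 : Z.subschemeι.app U (IdealModule.val Z n) = 0 :=
    ((IdealModule.exact_app Z U) _).mpr ⟨n, rfl⟩
  have h1 : z ∈ Z.subschemeι ⁻¹ᵁ X.basicOpen (IdealModule.val Z n) := hmem
  rw [Scheme.preimage_basicOpen, h0, Scheme.basicOpen_zero] at h1
  exact h1

/-- Away from the support there is a section of the ideal module with value `1`. -/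
theorem exists_val_one (Z : X.IdealSheafData) {W : X.Opens} (hW : Disjoint (W : Set X) Z.support) :
    ∃ e : Γ(ClSub.idealMod Z, W), IdealModule.val Z e = 1 := by
  have hemp : Z.subschemeι ⁻¹ᵁ W = ⊥ := by
    rw [eq_bot_iff]
    intro z hz
    have h1 : Z.subschemeι z ∈ (Z.support : Set X) := by
      rw [← Scheme.IdealSheafData.range_subschemeι]; exact ⟨z, rfl⟩
    exact Set.disjoint_left.1 hW hz h1
  have hsub : Subsingleton Γ(Z.subscheme, Z.subschemeι ⁻¹ᵁ W) := by
    rw [hemp]
    infer_instance
  exact ((IdealModule.exact_app Z W) (1 : Γ(X, W))).mp (@Subsingleton.elim _ hsub _ _)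

/-- The values of `F_w ⊗ I_w ⟶ F_w` at a point of the support lie in `m_w F_w`. -/
theorem stalkLin_mu_mem (F : X.Modules) (Z : X.IdealSheafData) (w : X) (hwZ : w ∈ Z.support)
    (z : (CohB1.tensorMod F (ClSub.idealMod Z)).presheaf.stalk w) :
    stalkLin (mu F Z) w z ∈ (IsLocalRing.maximalIdeal (X.presheaf.stalk w) • ⊤ :
      Submodule (X.presheaf.stalk w) (F.presheaf.stalk w)) := by
  obtain ⟨U, hwU, t, rfl⟩ := TopCat.Presheaf.exists_germ_eq (CohB1.tensorMod F (ClSub.idealMod Z)).presheaf z
  obtain ⟨V, i, hwV, n, m, m', hs⟩ := exists_sum_tmul t hwU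
  rw [← TopCat.Presheaf.germ_res_apply _ i w hwV, hs, stalkLin_germ, map_sum, map_sum]
  refine Submodule.sum_mem _ fun j _ => ?_
  rw [mu_tmul, germ_smul]
  exact Submodule.smul_mem_smul (germ_val_mem Z w hwV hwZ _) trivial

/-- **Criterion for global generation in dimension one.** -/
theorem isGloballyGenerated_of_vanishing [IsNoetherian X] (hd : topologicalKrullDim X ≤ 1)
    (F : X.Modules) (hF : Coh.IsCoh F)
    (h : ∀ (w : X) (hw : IsClosed ({w} : Set X)), Subsingleton (Coh.HH X (CohB1.tensorMod F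
      (ClSub.idealMod (Scheme.IdealSheafData.vanishingIdeal (⟨{w}, hw⟩ : Closeds X)))) 1)) :
    Curv2.IsGloballyGenerated F := by
  by_contra hgg
  obtain ⟨w, hw, N, hN, hNt⟩ := exists_closed_of_not_gg F hF hgg
  apply hN
  let Z := Scheme.IdealSheafData.vanishingIdeal (⟨{w}, hw⟩ : Closeds X)
  have hZs : (Z.support : Set X) = {w} :=
    Scheme.IdealSheafData.coe_support_vanishingIdeal (⟨{w}, hw⟩ : Closeds X)
  have hwZ : w ∈ Z.support := by
    have : w ∈ (Z.support : Set X) := by rw [hZs]; rfl
    exact this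
  let μ := mu F Z
  let D := cokernel μ
  let q : F ⟶ D := cokernel.π μ
  -- surjectivity on global sections
  have hsurj : Function.Surjective (q.app ⊤) := by
    let S : ShortComplex X.Modules := ShortComplex.mk (kernel.ι q) q (kernel.condition q)
    have hS : S.ShortExact := { exact := ShortComplex.exact_kernel q }
    have h1 : Subsingleton (Coh.HH X (Abelian.image μ) 1) :=
      K331.Point.subsingleton_H1_of_epi hd (Abelian.factorThruImage μ) (h w hw)
    intro σ
    obtain ⟨y, hy⟩ := exact₃ hS 0 ((equivAdd D).symm σ) (@Subsingleton.elim _ h1 _ _)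
    refine ⟨equivAdd F y, ?_⟩
    have h2 := equivAdd_map q y
    rw [← h2]
    have h3 : equivAdd D (hmap q 0 y) = equivAdd D ((equivAdd D).symm σ) := congrArg _ hy
    exact h3.trans (AddEquiv.apply_symm_apply _ _)
  -- `D` vanishes off `w`
  have hvan : ∀ (W : X.Opens), Disjoint (W : Set X) {w} → ∀ m : Γ(F, W), q.app W m = 0 := by
    intro W hW m
    obtain ⟨e, he⟩ := exists_val_one Z (W := W) (by rw [hZs]; exact hW)
    have h1 : m = μ.app W (tmul m e) := by
      rw [mu_tmul, he, one_smul]
    rw [h1]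
    have h2 : (μ ≫ q).app W (tmul m e) = 0 := by
      rw [cokernel.condition]; rfl
    exact h2
  -- every germ is, modulo the kernel of the stalk of `q`, a global section
  have hglob : ∀ m : F.presheaf.stalk w, ∃ t : Γ(F, ⊤),
      stalkLin q w (F.presheaf.germ ⊤ w trivial t) = stalkLin q w m := by
    intro m
    obtain ⟨V, hwV, m', rfl⟩ := TopCat.Presheaf.exists_germ_eq F.presheaf m
    obtain ⟨σ, hσ, -⟩ := Groth.Agent.CurvesC.DualInvSec.exists_extension D hw
      (Set.singleton_subset_iff.2 hwV : ({w} : Set X) ⊆ V) (q.app V m') (by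
        intro W hWV hdis
        have h1 : res D hWV (q.app V m') = q.app W (res F hWV m') := (app_res q hWV m').symm
        rw [h1]
        exact hvan W hdis _)
    obtain ⟨t, ht⟩ := hsurj σ
    refine ⟨t, ?_⟩
    rw [stalkLin_germ, stalkLin_germ, ht, ← hσ]
    exact (TopCat.Presheaf.germ_res_apply D.presheaf _ _ _ _).symm
  have hfin : Module.Finite (X.presheaf.stalk w) (F.presheaf.stalk w) :=
    Groth.Agent.CycB.CohStalk.finite_stalk F hF w
  have hle : (⊤ : Submodule (X.presheaf.stalk w) (F.presheaf.stalk w)) ≤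
      N ⊔ IsLocalRing.maximalIdeal (X.presheaf.stalk w) • ⊤ := by
    intro m _
    obtain ⟨t, ht⟩ := hglob m
    have h1 : stalkLin q w (m - F.presheaf.germ ⊤ w trivial t) = 0 := by
      rw [map_sub, ht, sub_self]
    obtain ⟨z, hz⟩ := (stalkLin_exact (ShortComplex.mk μ q (cokernel.condition μ))
      (ShortComplex.exact_cokernel μ) w _).mp h1
    have h2 : m = F.presheaf.germ ⊤ w trivial t + stalkLin μ w z := by
      rw [show stalkLin μ w z = m - F.presheaf.germ ⊤ w trivial t from hz]
      abel
    rw [h2]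
    exact Submodule.add_mem_sup (hNt t) (stalkLin_mu_mem F Z w hwZ z)
  refine eq_top_iff.2 (Submodule.le_of_le_smul_of_le_jacobson_bot (I := IsLocalRing.maximalIdeal _)
    hfin.fg_top ?_ hle)
  exact (IsLocalRing.jacobson_eq_maximalIdeal (⊥ : Ideal _) bot_ne_top).ge

end K331.GGCrit
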