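import Groth.Agent.CurvesB.SepPoints
import Groth.Agent.CurvesB.CurveRR
import Groth.Agent.CurvesC.DualDeg
import Groth.Agent.PerfB.TensExact
import Groth.Agent.CohqA.DirectSum

/-!
# The ideal of a closed point on a scheme over an algebraically closed field, and right exactness of `H^1`

* `subschemeι_appTop_surjective`: functions on the reduced closed point are constants.
* `subsingleton_H1_idealMod`: `H^1(X, O) = 0` implies `H^1(X, I_p) = 0`.
* `subsingleton_H1_of_epi`: `H^1` is right exact in dimension `≤ 1`.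
* `subsingleton_H1_tensor_of_gg`: `E` globally generated and `H^1(X, N) = 0` imply `H^1(X, E ⊗ N) = 0`.
-/

set_option autoImplicit false
universe u
open CategoryTheory CategoryTheory.Limits AlgebraicGeometry Opposite TopologicalSpace

namespace K331.Point

open Groth.Agent.CurvesB.SepPoints Groth.Agent.CohqB.HSeqMod Groth.Agent.CurvesB.HZero

section RightExact

variable {X : Scheme.{u}}

/-- `H^1` is right exact in dimension `≤ 1`. -/
theorem hmap_surjective_of_epi [IsNoetherian X] (hd : topologicalKrullDim X ≤ 1) {G F : X.Modules}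
    (e : G ⟶ F) [Epi e] : Function.Surjective (hmap e 1) := by
  let S : ShortComplex X.Modules := ShortComplex.mk (kernel.ι e) e (kernel.condition e)
  have hS : S.ShortExact := { exact := ShortComplex.exact_kernel e }
  have h2 : Subsingleton (Coh.HH X (kernel e) 2) :=
    Groth.Agent.CurvesB.CurveRR.subsingleton_HH_of_two_le hd (kernel e) 2 le_rfl
  intro x
  exact exact₃ hS 1 x (@Subsingleton.elim _ h2 _ _)

theorem subsingleton_H1_of_epi [IsNoetherian X] (hd : topologicalKrullDim X ≤ 1) {G F : X.Modules}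
    (e : G ⟶ F) [Epi e] (h : Subsingleton (Coh.HH X G 1)) : Subsingleton (Coh.HH X F 1) :=
  (hmap_surjective_of_epi hd e).subsingleton

/-- `E` globally generated and `H^1(X, N) = 0` imply `H^1(X, E ⊗ N) = 0` in dimension `≤ 1`. -/
theorem subsingleton_H1_tensor_of_gg [IsNoetherian X] (hd : topologicalKrullDim X ≤ 1) {E N : X.Modules}
    (hE : Curv2.IsGloballyGenerated E) (h : Subsingleton (Coh.HH X N 1)) :
    Subsingleton (Coh.HH X (CohB1.tensorMod E N) 1) := by
  obtain ⟨ι, p, hp⟩ : ∃ (ι : Type u) (p : (∐ fun _ : ι => Coh.structureModule X) ⟶ E), Epi p := hE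
  let Φ := DCoh.tensorRightMod N
  have hep : Epi (Φ.map p) := inferInstance
  have e1 : Φ.obj (∐ fun _ : ι => Coh.structureModule X) ≅ ∐ fun _ : ι => Φ.obj (Coh.structureModule X) :=
    PreservesCoproduct.iso Φ _
  have e2 : Φ.obj (Coh.structureModule X) ≅ N := Groth.Agent.Ega2.Tens.lunit N
  have h1 : Subsingleton (Coh.HH X (∐ fun _ : ι => N) 1) :=
    Groth.Agent.CohqA.DirectSum.subsingleton_coproduct _ 1 fun _ => h
  let e3 : (∐ fun _ : ι => N) ≅ Φ.obj (∐ fun _ : ι => Coh.structureModule X) :=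
    (Sigma.mapIso fun _ => e2.symm) ≪≫ e1.symm
  have hep2 : Epi (e3.hom ≫ Φ.map p) := epi_comp' inferInstance hep
  exact subsingleton_H1_of_epi (F := Φ.obj E) hd (e3.hom ≫ Φ.map p) h1

end RightExact

section Pt

variable {K : Type u} [Field K] [IsAlgClosed K] {X : Scheme.{u}}

variable (K) in
/-- Functions on a reduced closed point are constants. -/
theorem exists_const [X.Over (Spec (CommRingCat.of K))]
    [LocallyOfFiniteType (X ↘ Spec (CommRingCat.of K))] (x : X) (hx : IsClosed ({x} : Set X))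
    (Z : X.IdealSheafData) [IsReduced Z.subscheme] (hZ : (Z.support : Set X) = {x})
    (g : Γ(Z.subscheme, ⊤)) :
    ∃ a : K, g = Z.subschemeι.appTop (glb (X ↘ Spec (CommRingCat.of K)) a) := by
  have hmem : ∀ w ∈ (Z.support : Set X), ∃ z, Z.subschemeι z = w := by
    intro w hw
    rw [← Scheme.IdealSheafData.range_subschemeι] at hw
    exact hw
  obtain ⟨zx, hzx⟩ := hmem x (by rw [hZ]; simp)
  have hinj : Function.Injective Z.subschemeι := Z.subschemeι.isClosedEmbedding.injective
  have hz : ∀ z : Z.subscheme, z = zx := by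
    intro z
    have h1 : Z.subschemeι z ∈ (Z.support : Set X) := by
      rw [← Scheme.IdealSheafData.range_subschemeι]; exact ⟨z, rfl⟩
    rw [hZ] at h1
    exact hinj (h1.trans hzx.symm)
  have hcl : IsClosed ({zx} : Set Z.subscheme) := by
    have h1 : ({zx} : Set Z.subscheme) = Z.subschemeι ⁻¹' {Z.subschemeι zx} := by
      ext z'
      simp [hinj.eq_iff]
    rw [h1, hzx]
    exact hx.preimage Z.subschemeι.continuous
  let fZ := Z.subschemeι ≫ (X ↘ Spec (CommRingCat.of K))
  have hglb : ∀ a : K, glb fZ a = Z.subschemeι.appTop (glb (X ↘ Spec (CommRingCat.of K)) a) :=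
    fun a => rfl
  obtain ⟨a, ha⟩ := exists_const_sub_mem fZ zx hcl (Z.subscheme.presheaf.germ ⊤ zx trivial g)
  refine ⟨a, ?_⟩
  rw [← hglb]
  rw [← sub_eq_zero, ← basicOpen_eq_bot_iff, Scheme.basicOpen_eq_bot_iff_forall_evaluation_eq_zero]
  rintro ⟨z, -⟩
  obtain rfl := hz z
  change (Z.subscheme.residue z).hom (Z.subscheme.presheaf.germ ⊤ z trivial (g - glb fZ a)) = 0
  rw [map_sub, map_sub, sub_eq_zero]
  exact Ideal.Quotient.eq.2 ha

variable (K) in
theorem subschemeι_appTop_surjective [X.Over (Spec (CommRingCat.of K))]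
    [LocallyOfFiniteType (X ↘ Spec (CommRingCat.of K))] (x : X) (hx : IsClosed ({x} : Set X)) :
    Function.Surjective ((Scheme.IdealSheafData.vanishingIdeal (⟨{x}, hx⟩ : Closeds X)).subschemeι.appTop) := by
  intro g
  have := Groth.Agent.Ega1.ReducedSub.isReduced_subscheme_vanishingIdeal (⟨{x}, hx⟩ : Closeds X)
  obtain ⟨a, ha⟩ := exists_const K x hx _ (Scheme.IdealSheafData.coe_support_vanishingIdeal (⟨{x}, hx⟩ : Closeds X)) g
  exact ⟨_, ha.symm⟩

/-- `H^0(X, O) → H^0(X, O / I)` surjective and `H^1(X, O) = 0` imply `H^1(X, I) = 0`. -/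
theorem subsingleton_H1_idealMod_of_surjective (Z : X.IdealSheafData)
    (hs : Function.Surjective Z.subschemeι.appTop)
    (h1 : Subsingleton (Coh.HH X (Coh.structureModule X) 1)) :
    Subsingleton (Coh.HH X (ClSub.idealMod Z) 1) := by
  have hS := Groth.Agent.CurvesC.DualDeg.shortExact_ideal Z
  refine ⟨fun a b => ?_⟩
  suffices H : ∀ a : Coh.HH X (ClSub.idealMod Z) 1, a = 0 by rw [H a, H b]
  intro a
  obtain ⟨y, hy⟩ := exact₁ hS 0 a (@Subsingleton.elim _ h1 _ _)
  obtain ⟨g, hg⟩ := hs (equivAdd (ClSub.quotMod Z) y)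
  have h2 : hmap (ClSub.toSubscheme Z) 0 ((equivAdd (Coh.structureModule X)).symm g) = y := by
    apply (equivAdd (ClSub.quotMod Z)).injective
    exact (equivAdd_map (ClSub.toSubscheme Z) _).trans
      ((congrArg _ (AddEquiv.apply_symm_apply (equivAdd (Coh.structureModule X)) g)).trans hg)
  rw [← hy, ← h2]
  exact δ_hmap hS 0 _

variable (K) in
theorem subsingleton_H1_idealMod [X.Over (Spec (CommRingCat.of K))]
    [LocallyOfFiniteType (X ↘ Spec (CommRingCat.of K))] (x : X) (hx : IsClosed ({x} : Set X))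
    (h1 : Subsingleton (Coh.HH X (Coh.structureModule X) 1)) :
    Subsingleton (Coh.HH X (ClSub.idealMod (Scheme.IdealSheafData.vanishingIdeal (⟨{x}, hx⟩ : Closeds X))) 1) :=
  subsingleton_H1_idealMod_of_surjective _ (subschemeι_appTop_surjective K x hx) h1

end Pt

end K331.Point
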