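import Groth.Agent.Curves.K331.SerCast
import Groth.Agent.Ega2.H295.PnCoord
import Groth.Agent.ProjAut.K654.PnSec
import Groth.Agent.VarietyB.ProjStd
import Groth.Agent.Ega2.H296.PnGen
import Groth.Agent.Curves.K319.HomSub
import Groth.Agent.Curves.K334.Clifford
import Groth.Prelude.Def_Omega3

/-!
# Linear series from birational morphisms to projective space

* `adjoin_ratios`: if `X → P^n` is birational onto an integral closed subscheme `Y`, the ratios of the
  coordinates generate the function field of `X`.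
-/

set_option autoImplicit false
universe u
open CategoryTheory CategoryTheory.Limits AlgebraicGeometry Opposite TopologicalSpace

namespace K331.ProjSer

open Groth.Agent Groth.Agent.Fdesc.LocGen Groth.Agent.CurvesB.HZero K320.PointVal K331.Series
open Groth.Agent.VarietyB Groth.Agent.VarietyB.ProjGlue Groth.Agent.Ega2.H295.PnUniq
open Groth.Agent.Ega2.H295.PnCoord

attribute [local instance] Curv2.stalkAlgebra MvPolynomial.gradedAlgebra

variable {k : Type u} [Field k] {X : Scheme.{u}} {n : ℕ}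

section field

/-- Isomorphisms over an open subset are isomorphisms on stalks. -/
theorem isIso_stalkMap {X Y : Scheme.{u}} (φ : X ⟶ Y) (U : Y.Opens) [IsIso (φ ∣_ U)] (x : X) (hx : x ∈ φ ⁻¹ᵁ U) :
    IsIso (φ.stalkMap x) := by
  have h1 : (φ ⁻¹ᵁ U).ι ≫ φ = φ ∣_ U ≫ U.ι := (morphismRestrict_ι φ U).symm
  have h2 : IsOpenImmersion ((φ ⁻¹ᵁ U).ι ≫ φ) := by rw [h1]; infer_instance
  obtain ⟨x', rfl⟩ : ∃ x' : (φ ⁻¹ᵁ U).toScheme, (φ ⁻¹ᵁ U).ι x' = x := ⟨⟨x, hx⟩, rfl⟩
  have h3 : IsIso (((φ ⁻¹ᵁ U).ι ≫ φ).stalkMap x') := inferInstance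
  have h4 : IsIso ((φ ⁻¹ᵁ U).ι.stalkMap x') := inferInstance
  rw [Scheme.Hom.stalkMap_comp] at h3
  have h5 : IsIso (φ.stalkMap ((φ ⁻¹ᵁ U).ι x') ≫ (φ ⁻¹ᵁ U).ι.stalkMap x') := h3
  exact IsIso.of_isIso_comp_right _ ((φ ⁻¹ᵁ U).ι.stalkMap x')

variable [IsIntegral X] [X.Over (Spec (CommRingCat.of k))]

/-- Birational morphisms: functions on an affine open subset of the target generate the function field. -/
theorem adjoin_eq_top {Y : Scheme.{u}} (φ : X ⟶ Y) (hbir : ∃ U : Y.Opens, (U : Set Y).Nonempty ∧ IsIso (φ ∣_ U))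
    {V : Y.Opens} (hV : IsAffineOpen V) (hη : genericPoint X ∈ φ ⁻¹ᵁ V) (E : IntermediateField k X.functionField)
    (hE : ∀ b : Γ(Y, V), X.presheaf.germ (φ ⁻¹ᵁ V) (genericPoint X) hη (φ.app V b) ∈ E) : E = ⊤ := by
  obtain ⟨U, ⟨y, hy⟩, hU⟩ := hbir
  have hx : genericPoint X ∈ φ ⁻¹ᵁ U := by
    have : Nonempty (φ ⁻¹ᵁ U : Scheme.{u}) := ⟨(inv (φ ∣_ U)) ⟨y, hy⟩⟩
    obtain ⟨x⟩ := this
    exact generic_mem x.2
  have hiso := isIso_stalkMap φ U (genericPoint X) hx
  rw [eq_top_iff]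
  rintro z -
  obtain ⟨w, rfl⟩ := (ConcreteCategory.bijective_of_isIso (φ.stalkMap (genericPoint X))).2 z
  let := Y.presheaf.algebra_section_stalk (⟨φ (genericPoint X), hη⟩ : V)
  have hloc := hV.isLocalization_stalk ⟨φ (genericPoint X), hη⟩
  obtain ⟨⟨a, s⟩, hw⟩ := IsLocalization.surj (hV.primeIdealOf ⟨φ (genericPoint X), hη⟩).asIdeal.primeCompl w
  have h1 : ∀ b : Γ(Y, V), φ.stalkMap (genericPoint X) (algebraMap Γ(Y, V) (Y.presheaf.stalk (φ (genericPoint X))) b) =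
      X.presheaf.germ (φ ⁻¹ᵁ V) (genericPoint X) hη (φ.app V b) := fun b =>
    Scheme.Hom.germ_stalkMap_apply φ V (genericPoint X) hη b
  have h2 := congrArg (φ.stalkMap (genericPoint X)) hw
  rw [map_mul] at h2
  dsimp only at h2
  rw [h1, h1] at h2
  have h3 : IsUnit (φ.stalkMap (genericPoint X) (algebraMap Γ(Y, V) (Y.presheaf.stalk (φ (genericPoint X))) s)) :=
    (IsLocalization.map_units _ s).map (φ.stalkMap (genericPoint X)).hom
  rw [h1] at h3
  have h4 : φ.stalkMap (genericPoint X) w =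
      X.presheaf.germ (φ ⁻¹ᵁ V) (genericPoint X) hη (φ.app V a) /
        X.presheaf.germ (φ ⁻¹ᵁ V) (genericPoint X) hη (φ.app V s.1) := by
    rw [eq_div_iff h3.ne_zero]
    exact h2
  rw [h4]
  exact div_mem (hE a) (hE s.1)

end field

section proj

variable [X.Over (Spec (CommRingCat.of k))]
  (F : X ⟶ Proj (MvPolynomial.homogeneousSubmodule (Fin (n + 1)) k))

/-- The pullback of `O(1)`. -/
noncomputable abbrev NN : X.Modules :=
  (Scheme.Modules.pullback F).obj (Twist.twist (MvPolynomial.homogeneousSubmodule (Fin (n + 1)) k) 1)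

/-- The coordinates in `H⁰`. -/
noncomputable def co (j : Fin (n + 1)) : Coh.HH X (NN F) 0 := (equivAdd (NN F)).symm (tsec F j)

theorem equivAdd_co (j : Fin (n + 1)) : equivAdd (NN F) (co F j) = tsec F j := AddEquiv.apply_symm_apply _ _

theorem toStalk_co (i j : Fin (n + 1)) {x : X} (hx : x ∈ F ⁻¹ᵁ Dp (Fin (n + 1)) k i) :
    toStalk k (isGen_res_tsec F i (le_refl (F ⁻¹ᵁ Dp (Fin (n + 1)) k i))) x hx (co F j) =
      X.presheaf.germ (F ⁻¹ᵁ Dp (Fin (n + 1)) k i) x hx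
        (F.app (Dp (Fin (n + 1)) k i) (ProjStd.ratio (Fin (n + 1)) k i j)) := by
  rw [toStalk_apply, equivAdd_co]
  congr 1
  apply (isGen_res_tsec F i (le_refl (F ⁻¹ᵁ Dp (Fin (n + 1)) k i))).ext
  rw [coeffU_smul_gen]
  have h1 := res_tsec F i j (le_refl (F ⁻¹ᵁ Dp (Fin (n + 1)) k i))
  rw [Scheme.Hom.appLE_eq_app] at h1
  exact h1

/-- Some coordinate generates at each point. -/
theorem exists_genAt (x : X) : ∃ i, GenAt (equivAdd (NN F) (co F i)) x := by
  obtain ⟨i, hi⟩ := exists_mem F x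
  refine ⟨i, F ⁻¹ᵁ Dp (Fin (n + 1)) k i, hi, ?_⟩
  rw [equivAdd_co]
  exact isGen_res_tsec F i le_rfl

variable [IsIntegral X]

/-- The ratios of the coordinates of a birational morphism generate the function field. -/
theorem adjoin_ratios (hF : F ≫ ProjStd.toSpec (Fin (n + 1)) k = X ↘ Spec (CommRingCat.of k)) {Y : Scheme.{u}}
    (φ : X ⟶ Y) (hbir : ∃ U : Y.Opens, (U : Set Y).Nonempty ∧ IsIso (φ ∣_ U))
    (j : Y ⟶ Proj (MvPolynomial.homogeneousSubmodule (Fin (n + 1)) k)) [IsClosedImmersion j] (hφ : φ ≫ j = F)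
    (V : Submodule k (Coh.HH X (NN F) 0)) (hV : ∀ i, co F i ∈ V) :
    IntermediateField.adjoin k (ratios k V) = ⊤ := by
  subst hφ
  obtain ⟨i, hi⟩ := exists_mem (φ ≫ j) (genericPoint X)
  have haff : IsAffineOpen (Dp (Fin (n + 1)) k i) := ProjStd.isAffineOpen_U (Fin (n + 1)) k i
  refine adjoin_eq_top φ hbir (V := j ⁻¹ᵁ Dp (Fin (n + 1)) k i) (haff.preimage j) hi _ fun b => ?_
  obtain ⟨a, rfl⟩ := j.app_surjective _ haff b
  obtain ⟨p, rfl⟩ := dpHom_surjective (R := k) i a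
  have hgen := isGen_res_tsec (φ ≫ j) i (le_refl ((φ ≫ j) ⁻¹ᵁ Dp (Fin (n + 1)) k i))
  have h0 : ∀ a, X.presheaf.germ (φ ⁻¹ᵁ (j ⁻¹ᵁ Dp (Fin (n + 1)) k i)) (genericPoint X) hi
      (φ.app (j ⁻¹ᵁ Dp (Fin (n + 1)) k i) (j.app (Dp (Fin (n + 1)) k i) a)) =
      X.presheaf.germ ((φ ≫ j) ⁻¹ᵁ Dp (Fin (n + 1)) k i) (genericPoint X) hi
        ((φ ≫ j).app (Dp (Fin (n + 1)) k i) a) := by
    intro a
    rw [Scheme.Hom.comp_app]
    rfl
  rw [h0]
  induction p using MvPolynomial.induction_on with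
  | C c =>
    rw [dpHom_C]
    have h1 := appLE_baseHom (φ ≫ j) (ProjStd.toSpec (Fin (n + 1)) k)
      (le_refl ((φ ≫ j) ⁻¹ᵁ Dp (Fin (n + 1)) k i)) c
    rw [Scheme.Hom.appLE_eq_app, hF] at h1
    have h2 : X.presheaf.germ ((φ ≫ j) ⁻¹ᵁ Dp (Fin (n + 1)) k i) (genericPoint X) hi
        (CoordData.baseHom (X ↘ Spec (CommRingCat.of k)) ((φ ≫ j) ⁻¹ᵁ Dp (Fin (n + 1)) k i) c) =
        algebraMap k X.functionField c :=
      TopCat.Presheaf.germ_res_apply X.presheaf (homOfLE le_top) (genericPoint X) hi _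
    rw [h1, h2]
    exact IntermediateField.algebraMap_mem _ c
  | add p q hp hq =>
    rw [map_add, map_add, map_add]
    exact add_mem hp hq
  | mul_X p l hp =>
    rw [map_mul, map_mul, map_mul]
    refine mul_mem hp ?_
    rw [dpHom_X]
    apply IntermediateField.subset_adjoin
    have h3 := toStalk_co (φ ≫ j) i l hi
    have h4 := toStalk_co (φ ≫ j) i i hi
    have h5 : ProjStd.ratio (Fin (n + 1)) k i i = 1 := (ProjStd.stdData (Fin (n + 1)) k).f_self i
    rw [h5, map_one, map_one] at h4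
    refine ⟨co (φ ≫ j) l, hV l, co (φ ≫ j) i, hV i, ?_, (φ ≫ j) ⁻¹ᵁ Dp (Fin (n + 1)) k i, _, hgen, hi, ?_⟩
    · intro h0
      rw [h0, map_zero] at h4
      exact zero_ne_one h4
    · change _ * toStalk k hgen (genericPoint X) hi _ = toStalk k hgen (genericPoint X) hi _
      rw [h4, mul_one]
      exact h3.symm

end proj

section main

open Groth.Agent.Grpsch.PicGrp K532.CurvePic K319.PicCD

variable [X.Over (Spec (CommRingCat.of k))]

theorem inv_NN (F : X ⟶ Proj (MvPolynomial.homogeneousSubmodule (Fin (n + 1)) k)) : PicF.IsInvertible (NN F) :=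
  Groth.Agent.Ega2.H296.PnGen.isInvertible_pullback_twist (n := n) (R := k) F

/-- The pullback of linear forms is injective. -/
def Nondeg (F : X ⟶ Proj (MvPolynomial.homogeneousSubmodule (Fin (n + 1)) k)) : Prop :=
  ∀ c : Fin (n + 1) → k, ∑ j, (ProjUP.toGlobal (X ↘ Spec (CommRingCat.of k)) (c j) : Γ(X, ⊤)) • tsec F j = 0 → c = 0

theorem nondeg (F : X ⟶ CohB1.ProjSpace n k)
    (hF : F ≫ CohB1.ProjSpace.toSpec n k = X ↘ Spec (CommRingCat.of k))
    (hnd : ∀ s : LinSer.Sect (CohB1.ProjSpace n k) (Twist.twistProjSpace n k 1), s ≠ 0 →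
      OmegaSh.pullSect F (Twist.twistProjSpace n k 1) ⊤ s ≠ 0) : Nondeg (n := n) (k := k) F := by
  intro c hc
  have h5 := K654.AutPn.pullSec_lcg (CohB1.ProjSpace.toSpec n k) F hF (K654.AutPn.T n k) c
  have h6 : pullSec F (K654.AutPn.lc c) = 0 := h5.trans hc
  have h7 : K654.AutPn.lc c = 0 := by
    by_contra hne
    exact hnd _ hne h6
  apply K654.AutPn.lc_injective
  rw [h7]
  exact (K654.AutPn.lcg_zero _ _).symm

variable (F : X ⟶ Proj (MvPolynomial.homogeneousSubmodule (Fin (n + 1)) k))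

theorem linearIndependent_co (hnd : Nondeg F) : LinearIndependent k (co F) := by
  rw [Fintype.linearIndependent_iff]
  intro c hc
  have h2 := congrArg (equivAdd (NN F)) hc
  rw [map_sum, map_zero] at h2
  have h4 : ∀ i, equivAdd (NN F) (c i • co F i) =
      (ProjUP.toGlobal (X ↘ Spec (CommRingCat.of k)) (c i) : Γ(X, ⊤)) • tsec F i := by
    intro i
    rw [equivAdd_smul_over, equivAdd_co]
    rfl
  have h8 : c = 0 := hnd c (Eq.trans (Finset.sum_congr rfl fun i _ => (h4 i).symm) h2)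
  intro i
  rw [h8]
  rfl

variable [IsAlgClosed k] [IsIntegral X] [IsProper (X ↘ Spec (CommRingCat.of k))]

theorem le_finrank (hX : Reg X) (hnd : Nondeg F) : n + 1 ≤ h k X 0 (mk (NN F) (inv_NN F)) := by
  have h1 := linearIndependent_co F hnd
  have hfin := finite_HH (hX.isCurve (k := k)) (inv_NN F) 0
  rw [h_mk]
  simpa using h1.fintype_card_le_finrank

omit [IsAlgClosed k] [IsProper (X ↘ Spec (CommRingCat.of k))] in
/-- The complete linear series of a birational morphism. -/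
theorem ser_top (hF : F ≫ ProjStd.toSpec (Fin (n + 1)) k = X ↘ Spec (CommRingCat.of k)) {Y : Scheme.{u}}
    (φ : X ⟶ Y) (hbir : ∃ U : Y.Opens, (U : Set Y).Nonempty ∧ IsIso (φ ∣_ U))
    (j : Y ⟶ Proj (MvPolynomial.homogeneousSubmodule (Fin (n + 1)) k)) [IsClosedImmersion j] (hφ : φ ≫ j = F) {m : ℕ}
    (hm : Module.finrank k (Coh.HH X (NN F) 0) = m) : Ser k (⊤ : Submodule k (Coh.HH X (NN F) 0)) m where
  inv := inv_NN F
  dim := by rw [finrank_top, hm]
  bpf x := by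
    obtain ⟨i, hi⟩ := exists_genAt F x
    exact ⟨_, trivial, hi⟩
  fld _ := adjoin_ratios F hF φ hbir j hφ ⊤ fun _ => trivial

/-- **Castelnuovo's inequality** for birational morphisms. -/
theorem three_mul_le [CharZero k] (hX : Reg X)
    (hF : F ≫ ProjStd.toSpec (Fin (n + 1)) k = X ↘ Spec (CommRingCat.of k)) {Y : Scheme.{u}}
    (φ : X ⟶ Y) (hbir : ∃ U : Y.Opens, (U : Set Y).Nonempty ∧ IsIso (φ ∣_ U))
    (j : Y ⟶ Proj (MvPolynomial.homogeneousSubmodule (Fin (n + 1)) k)) [IsClosedImmersion j] (hφ : φ ≫ j = F) {r : ℕ}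
    (h0 : h k X 0 (mk (NN F) (inv_NN F)) = r + 1) (h1 : 0 < h k X 1 (mk (NN F) (inv_NN F))) :
    3 * r ≤ h k X 0 (mk (NN F) (inv_NN F) * mk (NN F) (inv_NN F)) := by
  obtain _ | m := r
  · exact Nat.zero_le _
  rw [h_mk] at h0 h1
  have h2 := K334.Clifford.finrank_add_le_of_isInvertible k hX.dim.le (inv_NN F) (by omega) h1
  have h3 := ser_top F hF φ hbir j hφ h0
  have h4 := K331.Cast.three_mul_le (hX.isCurve (k := k)) h3 (by
    change m ≤ Curv2.genus k X
    omega)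
  rw [h_mk k X 0 (inv_NN F), h0] at h4
  omega

end main

end K331.ProjSer
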