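import Groth.Agent.Curves.K331.Series
import Groth.Agent.Ega1.LocalSubringField
import Groth.Agent.JacVar.K532.SecMul

/-!
# Projection from a general point has no extra base point
-/

set_option autoImplicit false
universe u
open CategoryTheory CategoryTheory.Limits AlgebraicGeometry Opposite TopologicalSpace

namespace K331.Series

open Groth.Agent Groth.Agent.Fdesc.LocGen Groth.Agent.CurvesB.HZero Groth.Agent.CurvesB.InvEmb K320.PointVal
open K331.SeriesAlg

attribute [local instance] Curv2.stalkAlgebra secAlg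

section ideals

variable (k : Type u) [Field k] {X : Scheme.{u}} [X.Over (Spec (CommRingCat.of k))] [IsIntegral X]

/-- The image of `m_x ^ n` in the function field. -/
noncomputable def mK (n : ℕ) (x : X) : Submodule k X.functionField :=
  Submodule.map (IsScalarTower.toAlgHom k (X.presheaf.stalk x) X.functionField).toLinearMap
    ((IsLocalRing.maximalIdeal (X.presheaf.stalk x) ^ n).restrictScalars k)

theorem mem_mK {n : ℕ} {x : X} {z : X.functionField} : z ∈ mK k n x ↔
    ∃ a ∈ IsLocalRing.maximalIdeal (X.presheaf.stalk x) ^ n, algebraMap (X.presheaf.stalk x) X.functionField a = z :=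
  Iff.rfl

theorem stalk_inj (x : X) : Function.Injective (algebraMap (X.presheaf.stalk x) X.functionField) :=
  IsFractionRing.injective _ _

theorem algebraMap_mem_mK {n : ℕ} {x : X} {a : X.presheaf.stalk x} :
    algebraMap (X.presheaf.stalk x) X.functionField a ∈ mK k n x ↔
      a ∈ IsLocalRing.maximalIdeal (X.presheaf.stalk x) ^ n := by
  rw [mem_mK]
  constructor
  · rintro ⟨b, hb, hab⟩
    rwa [← stalk_inj x hab]
  · exact fun h => ⟨a, h, rfl⟩

theorem mK_le {n : ℕ} (hn : n ≠ 0) (x : X) : mK k n x ≤ mK k 1 x := by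
  rintro z ⟨a, ha, rfl⟩
  refine ⟨a, ?_, rfl⟩
  exact Ideal.pow_le_pow_right (Nat.one_le_iff_ne_zero.2 hn) ha

theorem idl_mK {n : ℕ} (hn : n ≠ 0) (x : X) : Idl (mK k n x) where
  mul := by
    rintro _ ⟨a, ha, rfl⟩ _ ⟨b, hb, rfl⟩
    refine ⟨a * b, Ideal.mul_mem_right _ _ ha, ?_⟩
    exact map_mul (algebraMap (X.presheaf.stalk x) X.functionField) a b
  div := by
    rintro c hc _ ⟨a, ha, rfl⟩ _ ⟨b, hb, rfl⟩
    have hb' : b ∈ IsLocalRing.maximalIdeal (X.presheaf.stalk x) := Ideal.pow_le_self hn hb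
    have h1 : IsUnit (algebraMap k (X.presheaf.stalk x) c + b) := by
      by_contra h
      have h2 : algebraMap k (X.presheaf.stalk x) c ∈ IsLocalRing.maximalIdeal (X.presheaf.stalk x) := by
        have := Ideal.sub_mem _ ((IsLocalRing.mem_maximalIdeal _).2 h) hb'
        rwa [add_sub_cancel_right] at this
      exact h2 ((IsUnit.mk0 c hc).map _)
    obtain ⟨u, hu⟩ := h1
    refine ⟨a * ↑u⁻¹, Ideal.mul_mem_right _ _ ha, ?_⟩
    change algebraMap _ _ (a * ↑u⁻¹) = algebraMap _ _ a / (algebraMap k X.functionField c + algebraMap _ _ b)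
    rw [← algebraMap_const k (x := x) c, ← map_add, ← hu, map_mul, div_eq_mul_inv]
    congr 1
    exact eq_inv_of_mul_eq_one_left (by rw [← map_mul, Units.inv_mul, map_one])
  ne := by
    rintro c hc
    rw [← algebraMap_const k (x := x), algebraMap_mem_mK] at hc
    by_contra h
    have h2 : algebraMap k (X.presheaf.stalk x) c ∈ IsLocalRing.maximalIdeal (X.presheaf.stalk x) :=
      Ideal.pow_le_self hn hc
    exact h2 ((IsUnit.mk0 c h).map _)

end ideals

section inf

variable {k K : Type*} [Field k] [Field K] [Algebra k K] {I J : Submodule k K}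

theorem _root_.K331.SeriesAlg.Idl.inf (hI : Idl I) (hJ : Idl J) : Idl (I ⊓ J) where
  mul := fun _ ha _ hb => ⟨hI.mul _ ha.1 _ hb.1, hJ.mul _ ha.2 _ hb.2⟩
  div := fun c hc _ ha _ hb => ⟨hI.div c hc _ ha.1 _ hb.1, hJ.div c hc _ ha.2 _ hb.2⟩
  ne := fun c hc => hI.ne c hc.1

end inf

section frac

variable (k : Type u) [Field k] {X : Scheme.{u}} [X.Over (Spec (CommRingCat.of k))]

theorem exists_frac {W : X.Opens} (hW : IsAffineOpen W) {p : X} (hp : p ∈ W) (a : X.presheaf.stalk p) :
    ∃ f g : Γ(X, W), IsUnit (X.presheaf.germ W p hp g) ∧ a * X.presheaf.germ W p hp g = X.presheaf.germ W p hp f := by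
  letI := TopCat.Presheaf.algebra_section_stalk X.presheaf ⟨p, hp⟩
  have h := hW.isLocalization_stalk ⟨p, hp⟩
  obtain ⟨⟨f, g⟩, hfg⟩ := IsLocalization.surj (hW.primeIdealOf ⟨p, hp⟩).asIdeal.primeCompl a
  exact ⟨f, g, IsLocalization.map_units (M := (hW.primeIdealOf ⟨p, hp⟩).asIdeal.primeCompl) _ g, hfg⟩

variable [IsIntegral X]

instance {W : X.Opens} [Nonempty W] : IsScalarTower k Γ(X, W) X.functionField :=
  .of_algebraMap_eq fun c => (germ_algebraMap k (W := W) (x := genericPoint X) _ c).symm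

/-- Ratios with a fixed denominator generate the same field. -/
theorem adjoin_ratio {L : X.Modules} (hL : PicF.IsInvertible L) {V : Submodule k (Coh.HH X L 0)}
    (hV : IntermediateField.adjoin k (ratios k V) = ⊤) {U : X.Opens} {e : Γ(L, U)} (he : IsGen e)
    (hU : genericPoint X ∈ U) {w : Coh.HH X L 0} (hw0 : w ≠ 0) :
    IntermediateField.adjoin k {z : X.functionField | ∃ v ∈ V, z = gen k he hU v / gen k he hU w} = ⊤ := by
  have hw : gen k he hU w ≠ 0 := (map_ne_zero_iff _ (gen_injective k hL he hU)).2 hw0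
  rw [eq_top_iff, ← hV, IntermediateField.adjoin_le_iff]
  intro z hz
  obtain ⟨s, hs, t, ht, ht0, h⟩ := (mem_ratios_iff k hL V he hU z).1 hz
  have ht' : gen k he hU t ≠ 0 := (map_ne_zero_iff _ (gen_injective k hL he hU)).2 ht0
  have h1 : z = (gen k he hU s / gen k he hU w) / (gen k he hU t / gen k he hU w) := by
    rw [← h]
    field_simp
  rw [h1]
  exact div_mem (IntermediateField.subset_adjoin _ _ ⟨s, hs, rfl⟩)
    (IntermediateField.subset_adjoin _ _ ⟨t, ht, rfl⟩)

/-- The open set on which everything is controlled by the ratios. -/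
theorem exists_open_T [LocallyOfFiniteType (X ↘ Spec (CommRingCat.of k))] {L : X.Modules}
    (hL : PicF.IsInvertible L) {V : Submodule k (Coh.HH X L 0)}
    (hV : IntermediateField.adjoin k (ratios k V) = ⊤) {w : Coh.HH X L 0} (hw : w ∈ V) (hw0 : w ≠ 0)
    {U : X.Opens} {e : Γ(L, U)} (he : IsGen e) (hU : genericPoint X ∈ U) :
    ∃ U₀ : X.Opens, (U₀ : Set X).Nonempty ∧ (∀ p ∈ U₀, GenAt (equivAdd L w) p) ∧
      ∀ p ∈ U₀, ∀ (I : Submodule k X.functionField) (hI : Idl I), I ≤ mK k 1 p →
        (∀ v ∈ V, gen k he hU v / gen k he hU w ∈ hI.T) →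
        ∀ a : X.presheaf.stalk p, algebraMap (X.presheaf.stalk p) X.functionField a ∈ hI.T := by
  -- an affine chart
  obtain ⟨W, hW, hηW, -⟩ := exists_isAffineOpen_mem_and_subset (X := X) (x := genericPoint X) (U := ⊤) trivial
  have hne : Nonempty W := ⟨⟨_, hηW⟩⟩
  have hfr : IsFractionRing Γ(X, W) X.functionField := functionField_isFractionRing_of_isAffineOpen X W hW
  have hft := finiteType k hW
  set S := {z : X.functionField | ∃ v ∈ V, z = gen k he hU v / gen k he hU w} with hS
  obtain ⟨c, hc, hc0, hclear⟩ := exists_clear (k := k) (A := Γ(X, W)) (adjoin_ratio k hL hV he hU hw0)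
  obtain ⟨f, g, hg, hfg⟩ := IsFractionRing.div_surjective (A := Γ(X, W)) c
  have hg0 : g ≠ 0 := nonZeroDivisors.ne_zero hg
  have hf0 : f ≠ 0 := by
    rintro rfl
    rw [map_zero, zero_div] at hfg
    exact hc0 hfg.symm
  obtain ⟨Gw, hGw, hGw'⟩ := K532.SecMul.exists_isGen hL
    ((map_ne_zero_iff _ (equivAdd L).injective).2 hw0)
  have hη : ∀ a : Γ(X, W), a ≠ 0 → genericPoint X ∈ X.basicOpen a := by
    intro a ha
    rw [X.mem_basicOpen _ _ hηW]
    have h1 : X.presheaf.germ W (genericPoint X) hηW a ≠ 0 := by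
      intro h
      apply ha
      apply germ_injective_of_isIntegral X (U := W) (genericPoint X) hηW
      rw [h, map_zero]
    exact (isUnit_iff_ne_zero (G₀ := X.functionField)).2 h1
  obtain ⟨y, hy⟩ := hGw
  refine ⟨X.basicOpen f ⊓ X.basicOpen g ⊓ Gw, ⟨genericPoint X, ⟨hη f hf0, hη g hg0⟩, generic_mem hy⟩,
    fun p hp => ⟨Gw, hp.2, hGw'⟩, ?_⟩
  rintro p ⟨⟨hpf, hpg⟩, -⟩ I hI hIm hT a
  have hpW : p ∈ W := X.basicOpen_le _ hpf
  rw [SetLike.mem_coe, X.mem_basicOpen _ _ hpW] at hpf hpg
  -- `c` is the image of a unit of the local ring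
  obtain ⟨uf, huf⟩ := hpf
  obtain ⟨ug, hug⟩ := hpg
  have hWK : ∀ b : Γ(X, W), algebraMap Γ(X, W) X.functionField b =
      algebraMap (X.presheaf.stalk p) X.functionField (X.presheaf.germ W p hpW b) := fun b =>
    (algebraMap_germ hpW hηW b).symm
  have hcu : c = algebraMap (X.presheaf.stalk p) X.functionField ↑(uf * ug⁻¹) := by
    rw [← hfg, hWK, hWK, Units.val_mul, map_mul, div_eq_mul_inv, ← huf, ← hug]
    congr 1
    exact (eq_inv_of_mul_eq_one_left (by rw [← map_mul, Units.inv_mul, map_one])).symm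
  obtain ⟨α, β, hβ, hαβ⟩ := exists_frac hW hpW a
  obtain ⟨n, hn⟩ := hclear α
  obtain ⟨m, hm⟩ := hclear β
  have hP : algebraMap Γ(X, W) X.functionField α * c ^ (n + m) ∈ Algebra.adjoin k S := by
    rw [pow_add, ← mul_assoc]
    exact mul_mem hn (pow_mem hc m)
  have hQ : algebraMap Γ(X, W) X.functionField β * c ^ (n + m) ∈ Algebra.adjoin k S := by
    rw [pow_add, mul_comm (c ^ n), ← mul_assoc]
    exact mul_mem hm (pow_mem hc n)
  obtain ⟨uβ, huβ⟩ := hβ
  have hQu : algebraMap Γ(X, W) X.functionField β * c ^ (n + m) =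
      algebraMap (X.presheaf.stalk p) X.functionField ↑(uβ * (uf * ug⁻¹) ^ (n + m)) := by
    rw [hWK, ← huβ, hcu, ← map_pow, ← map_mul, ← Units.val_pow_eq_pow_val, ← Units.val_mul]
  have hQI : algebraMap Γ(X, W) X.functionField β * c ^ (n + m) ∉ I := by
    intro h
    have h1 := hIm h
    rw [hQu, algebraMap_mem_mK, pow_one] at h1
    exact h1 (Units.isUnit _)
  have h1 := hI.div_mem_of_adjoin (S := S) (by
    rintro _ ⟨v, hv, rfl⟩
    exact hT v hv) hP hQ hQI
  have hβ0 : algebraMap Γ(X, W) X.functionField β ≠ 0 := by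
    intro h
    apply hQI
    rw [h, zero_mul]
    exact I.zero_mem
  have h2 : algebraMap (X.presheaf.stalk p) X.functionField a =
      (algebraMap Γ(X, W) X.functionField α * c ^ (n + m)) /
        (algebraMap Γ(X, W) X.functionField β * c ^ (n + m)) := by
    rw [mul_div_mul_right _ _ (pow_ne_zero _ hc0), eq_div_iff hβ0, hWK, hWK, ← map_mul, hαβ]
  rw [h2]
  exact h1

end frac

section concl

variable (k : Type u) [Field k] {X : Scheme.{u}} [X.Over (Spec (CommRingCat.of k))] [IsIntegral X]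

/-- The ratio `v / w` at a point where `w` generates. -/
theorem ratio_eq {L : X.Modules} (hL : PicF.IsInvertible L) {w : Coh.HH X L 0} (hw0 : w ≠ 0)
    {U : X.Opens} {e : Γ(L, U)} (he : IsGen e) (hU : genericPoint X ∈ U)
    {x : X} {U' : X.Opens} {e' : Γ(L, U')} (he' : IsGen e') (hx : x ∈ U')
    (u : (X.presheaf.stalk x)ˣ) (hu : (u : X.presheaf.stalk x) = toStalk k he' x hx w) (v : Coh.HH X L 0) :
    gen k he hU v / gen k he hU w =
      algebraMap (X.presheaf.stalk x) X.functionField (toStalk k he' x hx v * ↑u⁻¹) := by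
  have hw : gen k he hU w ≠ 0 := (map_ne_zero_iff _ (gen_injective k hL he hU)).2 hw0
  have h1 := gen_mul_gen k he he' hU (generic_mem hx) v w
  have h2 := algebraMap_toStalk k he' hx w
  have h3 := algebraMap_toStalk k he' hx v
  have hw' : gen k he' (generic_mem hx) w ≠ 0 := (map_ne_zero_iff _ (gen_injective k hL he' _)).2 hw0
  rw [div_eq_iff hw, map_mul, h3]
  have h4 : algebraMap (X.presheaf.stalk x) X.functionField ↑u⁻¹ = (gen k he' (generic_mem hx) w)⁻¹ := by
    apply eq_inv_of_mul_eq_one_left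
    rw [← h2, ← hu, ← map_mul, Units.inv_mul, map_one]
  rw [h4]
  field_simp
  rw [h1]

/-- If `s` does not generate at `x` then `s / w` lies in the maximal ideal at `x`. -/
theorem ratio_mem {L : X.Modules} (hL : PicF.IsInvertible L) {w : Coh.HH X L 0} (hw0 : w ≠ 0)
    {U : X.Opens} {e : Γ(L, U)} (he : IsGen e) (hU : genericPoint X ∈ U)
    {x : X} (hwx : GenAt (equivAdd L w) x) {s : Coh.HH X L 0} (hs : ¬ GenAt (equivAdd L s) x) :
    gen k he hU s / gen k he hU w ∈ mK k 1 x := by
  obtain ⟨U', e', hx, he'⟩ := (isInvertible_iff L).1 hL x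
  rw [genAt_iff' k he' hx] at hwx hs
  obtain ⟨u, hu⟩ := hwx
  rw [ratio_eq k hL hw0 he hU he' hx u hu, algebraMap_mem_mK, pow_one]
  exact Ideal.mul_mem_right _ _ hs

theorem exists_const [IsAlgClosed k] [LocallyOfFiniteType (X ↘ Spec (CommRingCat.of k))] {L : X.Modules}
    (hL : PicF.IsInvertible L) {p : X} (hp : IsClosed ({p} : Set X)) {w : Coh.HH X L 0}
    (hw : GenAt (equivAdd L w) p) (v : Coh.HH X L 0) : ∃ c : k, ¬ GenAt (equivAdd L (v - c • w)) p := by
  obtain ⟨U', e', hx, he'⟩ := (isInvertible_iff L).1 hL p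
  rw [genAt_iff' k he' hx] at hw
  obtain ⟨u, hu⟩ := hw
  obtain ⟨c, hc⟩ := resConst_stalk k p hp (toStalk k he' p hx v * ↑u⁻¹)
  refine ⟨c, ?_⟩
  rw [genAt_iff' k he' hx, map_sub, map_smul, ← hu]
  have h1 : toStalk k he' p hx v - c • (u : X.presheaf.stalk p) =
      (toStalk k he' p hx v * ↑u⁻¹ - algebraMap k _ c) * u := by
    rw [Algebra.smul_def, sub_mul, mul_assoc, Units.inv_mul, mul_one]
  rw [h1]
  exact Ideal.mul_mem_right _ _ hc

theorem sub_const {L : X.Modules} (hL : PicF.IsInvertible L) {w : Coh.HH X L 0} (hw0 : w ≠ 0)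
    {U : X.Opens} {e : Γ(L, U)} (he : IsGen e) (hU : genericPoint X ∈ U) (v : Coh.HH X L 0) (c : k) :
    gen k he hU v / gen k he hU w - algebraMap k _ c = gen k he hU (v - c • w) / gen k he hU w := by
  have hw : gen k he hU w ≠ 0 := (map_ne_zero_iff _ (gen_injective k hL he hU)).2 hw0
  rw [map_sub, map_smul, sub_div, Algebra.smul_def, mul_div_cancel_right₀ _ hw]

/-- Projection from a general point `p` of a birational linear series: no further base point away from `p`. -/
theorem exists_open_base [IsAlgClosed k] [X.IsSeparated] [LocallyOfFiniteType (X ↘ Spec (CommRingCat.of k))]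
    {L : X.Modules} (hL : PicF.IsInvertible L) {V : Submodule k (Coh.HH X L 0)}
    (hV : IntermediateField.adjoin k (ratios k V) = ⊤) {w : Coh.HH X L 0} (hw : w ∈ V) (hw0 : w ≠ 0) :
    ∃ U₀ : X.Opens, (U₀ : Set X).Nonempty ∧ (∀ p ∈ U₀, GenAt (equivAdd L w) p) ∧
      ∀ p ∈ U₀, IsClosed ({p} : Set X) →
        (∀ x : X, IsClosed ({x} : Set X) → x ≠ p → (∃ u ∈ V, GenAt (equivAdd L u) x) →
          ∃ s ∈ V, ¬ GenAt (equivAdd L s) p ∧ GenAt (equivAdd L s) x) ∧
        (IsLocalRing.maximalIdeal (X.presheaf.stalk p) ≤ IsLocalRing.maximalIdeal (X.presheaf.stalk p) ^ 2 ∨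
          ∃ s ∈ V, ∀ (U : X.Opens) (e : Γ(L, U)) (he : IsGen e) (hp : p ∈ U),
            toStalk k he p hp s ∈ IsLocalRing.maximalIdeal (X.presheaf.stalk p) ∧
            toStalk k he p hp s ∉ IsLocalRing.maximalIdeal (X.presheaf.stalk p) ^ 2) := by
  obtain ⟨U, e, hU, he⟩ := (isInvertible_iff L).1 hL (genericPoint X)
  obtain ⟨U₀, hne, hgen, key⟩ := exists_open_T k hL hV hw hw0 he hU
  refine ⟨U₀, hne, hgen, fun p hp hpc => ⟨fun x hx hxp ⟨u, hu, hux⟩ => ?_, ?_⟩⟩
  · by_contra hcon
    push Not at hcon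
    have hwx : GenAt (equivAdd L w) x := by
      by_contra hwx
      obtain ⟨c, hc⟩ := exists_const k hL hpc (hgen p hp) u
      have h1 := hcon _ (V.sub_mem hu (V.smul_mem c hw)) hc
      obtain ⟨U', e', hx', he'⟩ := (isInvertible_iff L).1 hL x
      rw [genAt_iff' k he' hx'] at hwx h1 hux
      rw [map_sub, map_smul] at h1
      have h2 := Ideal.add_mem (IsLocalRing.maximalIdeal (X.presheaf.stalk x)) h1
        (Submodule.smul_of_tower_mem _ c hwx)
      rw [sub_add_cancel] at h2
      exact h2 hux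
    have hI := (idl_mK k one_ne_zero p).inf (idl_mK k one_ne_zero x)
    have h3 := key p hp _ hI inf_le_left (fun v hv => by
      obtain ⟨c, hc⟩ := exists_const k hL hpc (hgen p hp) v
      refine ⟨c, ?_⟩
      rw [sub_const k hL hw0]
      exact ⟨ratio_mem k hL hw0 he hU (hgen p hp) hc,
        ratio_mem k hL hw0 he hU hwx (hcon _ (V.sub_mem hv (V.smul_mem c hw)) hc)⟩)
    have h4 : (algebraMap (X.presheaf.stalk p) X.functionField).range ≤
        (algebraMap (X.presheaf.stalk x) X.functionField).range := by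
      rintro _ ⟨a, rfl⟩
      obtain ⟨c, -, b, -, hb⟩ := h3 a
      change algebraMap (X.presheaf.stalk x) X.functionField b = _ at hb
      refine ⟨b + algebraMap k _ c, ?_⟩
      rw [map_add, hb, algebraMap_const, sub_add_cancel]
    rw [← Ega1.LocalSubringField.specializes_iff_range_le, specializes_iff_mem_closure, hx.closure_eq] at h4
    exact hxp (Set.mem_singleton_iff.1 h4).symm
  · by_contra hcon
    push Not at hcon
    obtain ⟨hm, hcon⟩ := hcon
    apply hm
    have hle : mK k 2 p ≤ mK k 1 p := mK_le k two_ne_zero p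
    have h3 := key p hp _ (idl_mK k two_ne_zero p) hle (fun v hv => by
      obtain ⟨c, hc⟩ := exists_const k hL hpc (hgen p hp) v
      refine ⟨c, ?_⟩
      rw [sub_const k hL hw0]
      obtain ⟨U', e', hp', he', h5⟩ := hcon _ (V.sub_mem hv (V.smul_mem c hw))
      have hw' := hgen p hp
      rw [genAt_iff' k hp' he'] at hw' hc
      obtain ⟨u, hu⟩ := hw'
      rw [ratio_eq k hL hw0 he hU hp' he' u hu, algebraMap_mem_mK]
      exact Ideal.mul_mem_right _ _ (h5 hc))
    intro a ha
    obtain ⟨c, hc⟩ := h3 a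
    have hc' : c = 0 := by
      apply (idl_mK k one_ne_zero p).ne
      have h4 : algebraMap (X.presheaf.stalk p) X.functionField a ∈ mK k 1 p := by
        rw [algebraMap_mem_mK, pow_one]
        exact ha
      have h5 := Submodule.sub_mem _ h4 (hle hc)
      rwa [sub_sub_cancel] at h5
    rw [hc', map_zero, sub_zero, algebraMap_mem_mK] at hc
    exact hc

end concl

end K331.Series
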