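import Groth.Agent.Curves.K331.SerMain
import Groth.Agent.VBCurve.K708.RatPt
import Groth.Agent.VBCurve.K708.SSH0
import Groth.Agent.Fga.GenIso
import Groth.Agent.Ega2.TensMon
import Groth.Agent.VBCurve.K703.Stab

/-!
# Castelnuovo's inequality on Picard classes

* `q C hp`: the class of `O(-p)`; `mk_vanish`, `deg_q`, `h0_q`: subtracting a point.
-/

set_option autoImplicit false
universe u
open CategoryTheory CategoryTheory.Limits AlgebraicGeometry Opposite TopologicalSpace

namespace K331.Cast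

open Groth.Agent Groth.Agent.Fdesc.LocGen Groth.Agent.CurvesB.HZero Groth.Agent.CurvesB.InvEmb K320.PointVal
open Groth.Agent.VarietyA.TwistDown K708.PtTwist K707.Base Groth.Agent.VarietyA.DegRank K331.Series
open Groth.Agent.Grpsch.PicGrp K532.CurvePic

attribute [local instance] Curv2.stalkAlgebra secAlg

variable {k : Type u} [Field k] {X : Scheme.{u}} [X.Over (Spec (CommRingCat.of k))] [IsIntegral X]

/-- Multiplication `L ⊗ O(-p) ⟶ L`. -/
noncomputable def muv (L : X.Modules) (p : X) :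
    CohB1.tensorMod L (vanish (Coh.structureModule X) p).toModules ⟶ L :=
  Groth.Agent.Ega2.Tens.mapT (𝟙 L) (vanish (Coh.structureModule X) p).ι ≫ (Groth.Agent.Ega2.Tens.runit L).hom

omit [IsIntegral X] in
theorem muv_tmul (L : X.Modules) (p : X) {U : X.Opens} (m : Γ(L, U))
    (n : Γ((vanish (Coh.structureModule X) p).toModules, U)) (r : Γ(X, U))
    (hr : (vanish (Coh.structureModule X) p).ι.app U n = r) :
    (muv L p).app U (tmul m n) = r • m := by
  have h1 := Groth.Agent.Ega2.Tens.mapT_tmul (𝟙 L) (vanish (Coh.structureModule X) p).ι m n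
  refine (congrArg ((Groth.Agent.Ega2.Tens.runit L).hom.app U) h1).trans ?_
  rw [hr]
  exact Groth.Agent.Ega2.Tens.runit_hom_tmul r m

variable [IsProper (X ↘ Spec (CommRingCat.of k))]

theorem exists_gens (C : Crv k X) {L : X.Modules} (hL : PicF.IsInvertible L) {p : X} (hp : IsClosed ({p} : Set X))
    (y : X) : ∃ (W : X.Opens) (e : Γ((vanish L p).toModules, W))
      (e' : Γ(CohB1.tensorMod L (vanish (Coh.structureModule X) p).toModules, W)), y ∈ W ∧ IsGen e ∧ IsGen e' ∧
      (vanish L p).ι.app W e = (muv L p).app W e' := by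
  obtain ⟨U, e, hyU, he⟩ := (isInvertible_iff L).1 hL y
  by_cases hyp : y = p
  · subst hyp
    obtain ⟨V, π, hπ⟩ := exists_locEq' C hp
    have hyW : y ∈ V ⊓ U := ⟨hπ.mem, hyU⟩
    have hπ' := hπ.res (inf_le_left : V ⊓ U ≤ V) hyW
    have he' := he.res (inf_le_right : V ⊓ U ≤ U)
    have h1 : IsGen (one (X := X) (V ⊓ U)) := isGen_one _
    refine ⟨V ⊓ U, vgen _ hπ', tmul (res L inf_le_right e) (vgen (one (X := X) (V ⊓ U)) hπ'), hyW, isGen_vgen he' hπ',
      he'.tmul (isGen_vgen h1 hπ'), ?_⟩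
    rw [ι_vgen, muv_tmul L y _ _ (ores (inf_le_left : V ⊓ U ≤ V) π)]
    rw [ι_vgen]
    exact mul_one (ores (inf_le_left : V ⊓ U ≤ V) π)
  · let D : X.Opens := ⟨({p} : Set X)ᶜ, hp.isOpen_compl⟩
    have hyW : y ∈ D ⊓ U := ⟨hyp, hyU⟩
    have hpW : p ∉ D ⊓ U := fun h => h.1 rfl
    have he' := he.res (inf_le_right : D ⊓ U ≤ U)
    have h1 : IsGen (one (X := X) (D ⊓ U)) := isGen_one _
    refine ⟨D ⊓ U, vgen' _ hpW, tmul (res L inf_le_right e) (vgen' (one (X := X) (D ⊓ U)) hpW), hyW, isGen_vgen' he' hpW,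
      he'.tmul (isGen_vgen' h1 hpW), ?_⟩
    rw [ι_vgen', muv_tmul L p _ _ (1 : Γ(X, D ⊓ U)), one_smul]
    rw [ι_vgen']
    rfl

theorem mono_muv (C : Crv k X) {L : X.Modules} (hL : PicF.IsInvertible L) {p : X} (hp : IsClosed ({p} : Set X)) :
    Mono (muv L p) := by
  have hO : PicF.IsInvertible (Coh.structureModule X) := isInvertible_structureModule
  apply K708.SSH0.mono_of_rank_one C (K707.TensL.rank_one_iff.mpr (isInvertible_tensorMod hL (invertible_vanish C hO hp)))
    (K707.TensL.vb_of_inv hL)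
  intro h0
  obtain ⟨W, e, e', hy, he, he', h⟩ := exists_gens C hL hp (genericPoint X)
  rw [h0] at h
  have h1 : e = 0 := by
    apply (vanish L p).ι_app_injective W
    rw [h, map_zero]
    rfl
  rw [h1] at he
  have h2 : (1 : Γ(X, W)) = 0 := he.ext (by rw [smul_zero, smul_zero])
  have h3 := congrArg (X.presheaf.germ W _ hy) h2
  rw [map_one, map_zero] at h3
  exact one_ne_zero h3

/-- The class of `O(-p)`. -/
noncomputable def q (C : Crv k X) {p : X} (hp : IsClosed ({p} : Set X)) : Pic X :=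
  mk (vanish (Coh.structureModule X) p).toModules (invertible_vanish C isInvertible_structureModule hp)

theorem mk_vanish (C : Crv k X) {L : X.Modules} (hL : PicF.IsInvertible L) {p : X} (hp : IsClosed ({p} : Set X)) :
    mk (vanish L p).toModules (invertible_vanish C hL hp) = mk L hL * q C hp := by
  rw [q, mk_mul_mk, mk_eq_iff]
  have := mono_muv C hL hp
  exact Fga.GenIso.nonempty_iso_of_gen (vanish L p).ι (muv L p) (exists_gens C hL hp)

theorem deg_q [IsAlgClosed k] (C : Crv k X) {p : X} (hp : IsClosed ({p} : Set X)) : deg k X (q C hp) = -1 := by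
  have hs : Function.Surjective (Curv2.resMap k X p) := by
    intro b
    obtain ⟨a, rfl⟩ := IsLocalRing.residue_surjective b
    obtain ⟨c, hc⟩ := resConst_stalk k p hp a
    refine ⟨c, ?_⟩
    have h1 := (IsLocalRing.residue_eq_zero_iff _).2 hc
    rw [map_sub, sub_eq_zero] at h1
    exact h1.symm
  have hO : PicF.IsInvertible (Coh.structureModule X) := isInvertible_structureModule
  have h1 := K708.RatPt.dg_vanish C hO hp hs
  rw [K708.SSH0.dg_structureModule, K703.Stab.dg_of_inv (invertible_vanish C hO hp)] at h1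
  rw [q, deg_mk k X C.dim, h1]
  rfl

/-- Subtracting a point where some section generates. -/
theorem h0_mul_q [IsAlgClosed k] (C : Crv k X) {p : X} (hp : IsClosed ({p} : Set X)) {L : X.Modules}
    (hL : PicF.IsInvertible L) [Module.Finite k (Coh.HH X L 0)] (hs : ∃ s : Coh.HH X L 0, GenAt (equivAdd L s) p) :
    h k X 0 (mk L hL * q C hp) + 1 = h k X 0 (mk L hL) := by
  obtain ⟨s, hs⟩ := hs
  have h1 := finrank_comap hL (⊤ : Submodule k (Coh.HH X L 0)) hp ⟨s, trivial, hs⟩
  rw [Submodule.comap_top, finrank_top, finrank_top] at h1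
  rw [← mk_vanish C hL hp, h_mk, h_mk, h1]

end K331.Cast

namespace K331.Cast

open Groth.Agent Groth.Agent.Fdesc.LocGen Groth.Agent.CurvesB.HZero Groth.Agent.CurvesB.InvEmb K320.PointVal
open Groth.Agent.VarietyA.TwistDown K708.PtTwist K707.Base Groth.Agent.VarietyA.DegRank K331.Series
open Groth.Agent.Grpsch.PicGrp K532.CurvePic

attribute [local instance] Curv2.stalkAlgebra secAlg

variable {k : Type u} [Field k] [IsAlgClosed k] {X : Scheme.{u}} [X.Over (Spec (CommRingCat.of k))] [IsIntegral X]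
  (hX : IsCurve k X)

include hX

omit [IsAlgClosed k] in
theorem _root_.K532.CurvePic.IsCurve.crv : Crv k X := by
  have := hX.smooth
  exact Crv.of_smooth hX.dim

/-- The class of `O(-p)`. -/
noncomputable def qp {p : X} (hp : IsClosed ({p} : Set X)) : Pic X :=
  have := hX.proper
  q hX.crv hp

theorem deg_qp {p : X} (hp : IsClosed ({p} : Set X)) : deg k X (qp hX hp) = -1 :=
  have := hX.proper
  deg_q hX.crv hp

theorem exists_open_h0 {c : Pic X} (hc : 0 < h k X 0 c) : ∃ U : X.Opens, (U : Set X).Nonempty ∧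
    ∀ p ∈ U, ∀ hp : IsClosed ({p} : Set X), h k X 0 (c * qp hX hp) + 1 = h k X 0 c := by
  have := hX.proper
  obtain ⟨L, hL, rfl⟩ := exists_mk c
  have hfin := finite_HH hX hL 0
  have hnt : Nontrivial (Coh.HH X L 0) := (nontrivial_iff hX hL 0).2 hc
  obtain ⟨s, hs⟩ := exists_ne (0 : Coh.HH X L 0)
  obtain ⟨W, hW, hg⟩ := K532.SecMul.exists_isGen hL ((map_ne_zero_iff _ (equivAdd L).injective).2 hs)
  exact ⟨W, hW, fun p hpW hp => h0_mul_q hX.crv hp hL ⟨s, W, hpW, hg⟩⟩

theorem h1_mul_qp_inv {c : Pic X} {p : X} (hp : IsClosed ({p} : Set X))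
    (h1 : h k X 0 (om hX * c⁻¹ * qp hX hp) + 1 = h k X 0 (om hX * c⁻¹)) :
    h k X 1 (c * (qp hX hp)⁻¹) + 1 = h k X 1 c ∧ h k X 0 (c * (qp hX hp)⁻¹) = h k X 0 c := by
  have h2 := serre hX c
  have h3 := serre hX (c * (qp hX hp)⁻¹)
  have e1 : om hX * (c * (qp hX hp)⁻¹)⁻¹ = om hX * c⁻¹ * qp hX hp := by
    rw [mul_inv, inv_inv, mul_assoc]
  rw [e1] at h3
  have h4 := rr hX c
  have h5 := rr hX (c * (qp hX hp)⁻¹)
  rw [deg_mul hX, deg_inv hX, deg_qp] at h5
  constructor <;> omega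

theorem exists_open_h1 {c : Pic X} (hc : 0 < h k X 1 c) : ∃ U : X.Opens, (U : Set X).Nonempty ∧
    ∀ p ∈ U, ∀ hp : IsClosed ({p} : Set X), h k X 1 (c * (qp hX hp)⁻¹) + 1 = h k X 1 c ∧
      h k X 0 (c * (qp hX hp)⁻¹) = h k X 0 c := by
  obtain ⟨U, hU, h1⟩ := exists_open_h0 hX (c := om hX * c⁻¹) (by rwa [← serre hX c])
  exact ⟨U, hU, fun p hpU hp => h1_mul_qp_inv hX hp (h1 p hpU hp)⟩

theorem exists_closed {U : X.Opens} (hU : (U : Set X).Nonempty) : ∃ p ∈ U, IsClosed ({p} : Set X) := by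
  have := hX.proper
  have : JacobsonSpace X := LocallyOfFiniteType.jacobsonSpace (X ↘ Spec (CommRingCat.of k))
  obtain ⟨p, hp, hpc⟩ := nonempty_inter_closedPoints hU U.2.isLocallyClosed
  exact ⟨p, hp, hpc⟩

/-- A base point free series of dimension two gives the pencil inequality. -/
theorem pencil_ser {L : X.Modules} {V : Submodule k (Coh.HH X L 0)}
    (hV : Ser k V 2) (c : Pic X) :
    2 * h k X 0 (c * mk L hV.inv) ≤ h k X 0 c + h k X 0 (c * mk L hV.inv * mk L hV.inv) := by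
  have := hX.proper
  have hL := hV.inv
  have hfin := finite_HH hX hL 0
  obtain ⟨b⟩ : Nonempty (Module.Basis (Fin 2) k V) := ⟨Module.finBasisOfFinrankEq k V hV.dim⟩
  refine K320.G12.pencil hX hL (s := equivAdd L (b 0)) (t := equivAdd L (b 1)) ?_ c
  intro x
  obtain ⟨s, hs, hg⟩ := hV.bpf x
  obtain ⟨U, e, hxU, he⟩ := (isInvertible_iff L).1 hL x
  have key : GenAt (equivAdd L (b 0 : Coh.HH X L 0)) x ∨ GenAt (equivAdd L (b 1 : Coh.HH X L 0)) x := by
    rw [genAt_iff' k he hxU, genAt_iff' k he hxU]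
    rw [genAt_iff' k he hxU] at hg
    by_contra hcon
    push Not at hcon
    have h1 : s = b.repr ⟨s, hs⟩ 0 • (b 0 : Coh.HH X L 0) + b.repr ⟨s, hs⟩ 1 • (b 1 : Coh.HH X L 0) := by
      have := congrArg (Subtype.val) (b.sum_repr ⟨s, hs⟩)
      rw [Fin.sum_univ_two] at this
      exact this.symm
    rw [h1, map_add, map_smul, map_smul, Algebra.smul_def, Algebra.smul_def] at hg
    have h2 : algebraMap k (X.presheaf.stalk x) (b.repr ⟨s, hs⟩ 0) * toStalk k he x hxU (b 0 : Coh.HH X L 0) +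
        algebraMap k (X.presheaf.stalk x) (b.repr ⟨s, hs⟩ 1) * toStalk k he x hxU (b 1 : Coh.HH X L 0) ∈
        IsLocalRing.maximalIdeal (X.presheaf.stalk x) :=
      Ideal.add_mem _ (Ideal.mul_mem_left _ _ hcon.1) (Ideal.mul_mem_left _ _ hcon.2)
    exact h2 hg
  rcases key with ⟨W, hxW, hW⟩ | ⟨W, hxW, hW⟩
  · exact ⟨W, hxW, Or.inl hW⟩
  · exact ⟨W, hxW, Or.inr hW⟩

/-- **Castelnuovo's inequality**, inductive form. -/
theorem castelnuovo [CharZero k] (n : ℕ) : ∀ {L : X.Modules} (V : Submodule k (Coh.HH X L 0))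
    (hV : Ser k V (n + 2)) (e : Pic X), h k X 0 e = 1 → n ≤ h k X 1 e →
      2 * h k X 0 (e * mk L hV.inv) + n ≤ h k X 0 (e * mk L hV.inv * mk L hV.inv) + 1 := by
  have := hX.proper
  induction n with
  | zero =>
    intro L V hV e he _
    have h1 := pencil_ser hX hV e
    omega
  | succ n ih =>
    intro L V hV e he hn
    have hL := hV.inv
    have hfin := finite_HH hX hL 0
    obtain ⟨U₀, hU₀, hstep⟩ := Ser.step hX.crv hV (by omega)
    obtain ⟨U₁, hU₁, h1⟩ := exists_open_h1 hX (c := e) (by omega)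
    have hℓ : 0 < h k X 0 (mk L hL) := by
      rw [h_mk]
      have h2 := hV.dim
      have h3 := Submodule.finrank_le V
      omega
    obtain ⟨U₂, hU₂, h2⟩ := exists_open_h0 hX (c := e * mk L hL * mk L hL)
      (h0_mul_pos hX (h0_mul_pos hX (by omega) hℓ) hℓ)
    obtain ⟨x₀, hx₀⟩ := hU₀
    obtain ⟨x₁, hx₁⟩ := hU₁
    obtain ⟨x₂, hx₂⟩ := hU₂
    obtain ⟨p, ⟨hp0, hp1, hp2⟩, hp⟩ := exists_closed hX (U := U₀ ⊓ (U₁ ⊓ U₂))
      ⟨genericPoint X, generic_mem hx₀, generic_mem hx₁, generic_mem hx₂⟩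
    have hV' := hstep p hp0 hp
    obtain ⟨h3, h4⟩ := h1 p hp1 hp
    have h5 := h2 p hp2 hp
    have h6 := ih _ hV' (e * (qp hX hp)⁻¹) (by rw [h4, he]) (by omega)
    have e0 : mk (vanish L p).toModules hV'.inv = mk L hL * qp hX hp := mk_vanish hX.crv hL hp
    have e1 : e * (qp hX hp)⁻¹ * (mk L hL * qp hX hp) = e * mk L hL := by
      rw [mul_comm (mk L hL), ← mul_assoc, inv_mul_cancel_right]
    rw [e0, e1, ← mul_assoc] at h6
    omega

/-- **Castelnuovo's inequality** `h⁰(L²) ≥ 3r` for a birational base point free series. -/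
theorem three_mul_le [CharZero k] {L : X.Modules} {V : Submodule k (Coh.HH X L 0)} {n : ℕ}
    (hV : Ser k V (n + 2)) (hn : n ≤ gen k X) :
    2 * h k X 0 (mk L hV.inv) + n ≤ h k X 0 (mk L hV.inv * mk L hV.inv) + 1 := by
  have h1 := castelnuovo hX n V hV 1 (h0_one hX) (by
    have := rr hX 1
    rw [deg_one, h0_one hX] at this
    omega)
  rwa [one_mul] at h1

end K331.Cast
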