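import Groth.Agent.Curves.K331.SerStep
import Groth.Agent.Curves.K320.G12

/-!
# Castelnuovo's inequality `h⁰(L²) ≥ 3r` for birational linear series
-/

set_option autoImplicit false
universe u
open CategoryTheory CategoryTheory.Limits AlgebraicGeometry Opposite TopologicalSpace TensorProduct

namespace K331.Series

open Groth.Agent Groth.Agent.Fdesc.LocGen Groth.Agent.CurvesB.HZero Groth.Agent.CurvesB.InvEmb K320.PointVal
open K331.SeriesAlg Groth.Agent.VarietyA.TwistDown K708.PtTwist K707.Base Groth.Agent.VarietyA.DegRank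

attribute [local instance] Curv2.stalkAlgebra secAlg

variable (k : Type u) [Field k] {X : Scheme.{u}} [X.Over (Spec (CommRingCat.of k))] [IsIntegral X]

/-- A base point free linear series of dimension `n` (as a vector space), birational if `n ≥ 3`. -/
structure Ser {L : X.Modules} (V : Submodule k (Coh.HH X L 0)) (n : ℕ) : Prop where
  inv : PicF.IsInvertible L
  dim : Module.finrank k V = n
  bpf : ∀ x : X, ∃ s ∈ V, GenAt (equivAdd L s) x
  fld : 3 ≤ n → IntermediateField.adjoin k (ratios k V) = ⊤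

variable {k}

/-- The dimension of `V(-p)` when `p` is not a base point. -/
theorem finrank_comap [IsAlgClosed k] [LocallyOfFiniteType (X ↘ Spec (CommRingCat.of k))] {L : X.Modules}
    (hL : PicF.IsInvertible L) (V : Submodule k (Coh.HH X L 0)) [Module.Finite k V] {p : X}
    (hp : IsClosed ({p} : Set X)) (hV : ∃ s ∈ V, GenAt (equivAdd L s) p) :
    Module.finrank k (V.comap (incl k L p)) + 1 = Module.finrank k V := by
  obtain ⟨U, e, hpU, he⟩ := (isInvertible_iff L).1 hL p
  obtain ⟨ε, hε⟩ := exists_valAt k hp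
  let φ : V →ₗ[k] k := ε.toLinearMap.comp ((toStalk k he p hpU).comp V.subtype)
  have hφ : ∀ s : V, φ s = 0 ↔ ¬ GenAt (equivAdd L (s : Coh.HH X L 0)) p := by
    intro s
    rw [genAt_iff' k he hpU]
    exact hε _
  have h1 : V ⊓ LinearMap.range (incl k L p) = (LinearMap.ker φ).map V.subtype := by
    ext s
    rw [Submodule.mem_inf, mem_range_incl k hL]
    constructor
    · rintro ⟨hs, h⟩
      exact ⟨⟨s, hs⟩, (hφ _).2 h, rfl⟩
    · rintro ⟨s, hs, rfl⟩
      exact ⟨s.2, (hφ _).1 hs⟩
  have h2 : Module.finrank k (V.comap (incl k L p)) = Module.finrank k (LinearMap.ker φ) := by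
    rw [(Submodule.equivMapOfInjective (incl k L p) (incl_injective k L p) _).finrank_eq,
      Submodule.map_comap_eq, inf_comm, h1, Submodule.finrank_map_subtype_eq]
  have h3 := φ.finrank_range_add_finrank_ker
  have h4 : LinearMap.range φ = ⊤ := by
    rw [LinearMap.range_eq_top]
    apply LinearMap.surjective
    intro h0
    obtain ⟨s, hs, hg⟩ := hV
    exact ((hφ ⟨s, hs⟩).1 (by rw [h0]; rfl)) hg
  rw [h4, finrank_top, Module.finrank_self] at h3
  omega

/-- Restriction of generation to specialisations. -/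
theorem GenAt.of_specializes {X : Scheme.{u}} {L : X.Modules} {s : Γ(L, ⊤)} {x y : X} (h : GenAt s y) (hxy : x ⤳ y) :
    GenAt s x := by
  obtain ⟨V, hy, hV⟩ := h
  exact ⟨V, hxy.mem_open V.2 hy, hV⟩

theorem genAt_incl_of_ne {L : X.Modules} (hL : PicF.IsInvertible L) {p x : X} (hp : IsClosed ({p} : Set X))
    (hx : x ≠ p) (s : Coh.HH X (vanish L p).toModules 0) :
    GenAt (equivAdd _ s) x ↔ GenAt (equivAdd L (incl k L p s)) x := by
  obtain ⟨U, e, hxU, he⟩ := (isInvertible_iff L).1 hL x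
  let C : X.Opens := ⟨({p} : Set X)ᶜ, hp.isOpen_compl⟩
  have hUC : U ⊓ C ≤ U := inf_le_left
  have hpUC : p ∉ U ⊓ C := fun h => h.2 rfl
  have hxUC : x ∈ U ⊓ C := ⟨hxU, hx⟩
  rw [genAt_iff' k (he.res hUC) hxUC, genAt_iff' k (isGen_vgen' (he.res hUC) hpUC) hxUC,
    toStalk_vgen' k (he.res hUC) hpUC]

/-- One step of the projection. -/
theorem Ser.step [IsAlgClosed k] [CharZero k] [IsProper (X ↘ Spec (CommRingCat.of k))] (C : Crv k X)
    {L : X.Modules} {V : Submodule k (Coh.HH X L 0)} [Module.Finite k V] {n : ℕ} (h : Ser k V n) (hn : 3 ≤ n) :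
    ∃ U₀ : X.Opens, (U₀ : Set X).Nonempty ∧ ∀ p ∈ U₀, IsClosed ({p} : Set X) →
      Ser k (V.comap (incl k L p)) (n - 1) := by
  have hL := h.inv
  have hV := h.fld hn
  have hnoeth := K707.Deg.isNoetherian k (X := X)
  have hsep : X.IsSeparated := by
    have : IsSeparated (X ↘ Spec (CommRingCat.of k) ≫ terminal.from _) := inferInstance
    exact ⟨by rwa [Subsingleton.elim (terminal.from X) (X ↘ Spec (CommRingCat.of k) ≫ terminal.from _)]⟩
  obtain ⟨w, hw, hw0⟩ : ∃ w ∈ V, w ≠ 0 := by
    have : V ≠ ⊥ := by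
      rintro rfl
      have := h.dim
      rw [finrank_bot] at this
      omega
    exact V.exists_mem_ne_zero_of_ne_bot this
  obtain ⟨U₁, hU₁, hgen, hbase⟩ := exists_open_base k hL hV hw hw0
  obtain ⟨U₂, hU₂, hfld⟩ : ∃ U₂ : X.Opens, (U₂ : Set X).Nonempty ∧ ∀ p ∈ U₂, IsClosed ({p} : Set X) → 4 ≤ n →
      IntermediateField.adjoin k (ratios k (V.comap (incl k L p))) = ⊤ := by
    by_cases hn4 : 4 ≤ n
    · obtain ⟨U₂, hU₂, hh⟩ := exists_open_fld k C.dim hL hV (by rw [h.dim]; exact hn4)
      exact ⟨U₂, hU₂, fun p hp hpc _ => hh p hp hpc⟩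
    · exact ⟨⊤, ⟨genericPoint X, trivial⟩, fun p _ _ h4 => absurd h4 hn4⟩
  obtain ⟨x₁, hx₁⟩ := hU₁
  obtain ⟨x₂, hx₂⟩ := hU₂
  refine ⟨U₁ ⊓ U₂, ⟨genericPoint X, generic_mem hx₁, generic_mem hx₂⟩, fun p hp hpc => ?_⟩
  have hinv := invertible_vanish C hL hpc
  refine ⟨hinv, ?_, ?_, fun hn1 => hfld p hp.2 hpc (by omega)⟩
  · have h1 := finrank_comap hL V hpc ⟨w, hw, hgen p hp.1⟩
    rw [h.dim] at h1
    omega
  · have hcl : ∀ x : X, IsClosed ({x} : Set X) → ∃ s ∈ V.comap (incl k L p), GenAt (equivAdd _ s) x := by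
      intro x hxc
      by_cases hxp : x = p
      · subst hxp
        obtain ⟨U, π, hπ⟩ := exists_locEq' C hxc
        obtain ⟨U', e, hxU', he⟩ := (isInvertible_iff L).1 hL x
        have hπ' := hπ.res (inf_le_left : U ⊓ U' ≤ U) ⟨hπ.mem, hxU'⟩
        have he' := he.res (inf_le_right : U ⊓ U' ≤ U')
        have hx' : x ∈ U ⊓ U' := ⟨hπ.mem, hxU'⟩
        obtain ⟨-, hb⟩ := hbase x hp.1 hxc
        rcases hb with hb | ⟨s, hs, hb⟩
        · exfalso
          have h1 : IsLocalRing.maximalIdeal (X.presheaf.stalk x) = ⊥ := by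
            refine Submodule.eq_bot_of_le_smul_of_le_jacobson_bot (IsLocalRing.maximalIdeal _) _
              (IsNoetherian.noetherian _) ?_ (IsLocalRing.maximalIdeal_le_jacobson ⊥)
            rw [smul_eq_mul, ← sq]
            exact hb
          have h2 := hπ.gen
          rw [h1, eq_comm, Ideal.span_singleton_eq_bot] at h2
          have h3 := hπ.nzd
          rw [h2] at h3
          exact zero_notMem_nonZeroDivisors h3
        · obtain ⟨hb1, hb2⟩ := hb _ _ he' hx'
          have h1 : ¬ GenAt (equivAdd L s) x := by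
            rw [genAt_iff' k he' hx']
            exact hb1
          obtain ⟨s', rfl⟩ := (mem_range_incl k hL x s).2 h1
          refine ⟨s', hs, ?_⟩
          rw [genAt_iff' k (isGen_vgen he' hπ') hx']
          by_contra hcon
          apply hb2
          rw [toStalk_vgen k he' hπ', sq]
          refine Ideal.mul_mem_mul ?_ hcon
          rw [hπ'.gen]
          exact Ideal.mem_span_singleton_self _
      · obtain ⟨s, hs, hsp, hsx⟩ := (hbase p hp.1 hpc).1 x hxc hxp (h.bpf x)
        obtain ⟨s', rfl⟩ := (mem_range_incl k hL p s).2 hsp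
        exact ⟨s', hs, (genAt_incl_of_ne hL hpc hxp s').2 hsx⟩
    intro x
    obtain ⟨y, hy, hyc⟩ := IsClosed.exists_closed_singleton (S := closure ({x} : Set X)) isClosed_closure
      ⟨x, subset_closure rfl⟩
    obtain ⟨s, hs, hg⟩ := hcl y hyc
    exact ⟨s, hs, hg.of_specializes (specializes_iff_mem_closure.2 hy)⟩

end K331.Series
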