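import Groth.Agent.Curves.K331.SerBase
import Groth.Agent.Vancyc.H678.KDim
import Groth.Agent.Fdesc.TensorDomain
import Groth.Agent.S2680
import Groth.Agent.VBCurve.K708.RatPt

/-!
# Projecting a linear series from a general point
-/

set_option autoImplicit false
universe u
open CategoryTheory CategoryTheory.Limits AlgebraicGeometry Opposite TopologicalSpace TensorProduct

namespace K331.Series

open Groth.Agent Groth.Agent.Fdesc.LocGen Groth.Agent.CurvesB.HZero Groth.Agent.CurvesB.InvEmb K320.PointVal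
open K331.SeriesAlg Groth.Agent.VarietyA.TwistDown

attribute [local instance] Curv2.stalkAlgebra secAlg

theorem exists_t {k A K : Type u} [Field k] [CommRing A] [IsDomain A] [Field K] [Algebra k A] [Algebra k K]
    [Algebra A K] [IsScalarTower k A K] [IsFractionRing A K] [Algebra.FiniteType k A]
    (h : ringKrullDim A = 1) : ∃ t : K, Transcendental k t ∧
      Algebra.IsAlgebraic (IntermediateField.adjoin k {t}) K := by
  obtain ⟨n, h1, h2, -⟩ := S2680.result k A
  have hn : n = 1 := by
    rw [h] at h2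
    exact_mod_cast h2.symm
  subst hn
  have e : FractionRing A ≃ₐ[k] K := (FractionRing.algEquiv A K).restrictScalars k
  have h3 : Algebra.trdeg k K = 1 := by
    rw [← e.trdeg_eq, h1, Nat.cast_one]
  obtain ⟨s, hs⟩ := exists_isTranscendenceBasis k K
  have h4 : Cardinal.mk s = 1 := by rw [← h3]; exact hs.cardinalMk_eq_trdeg
  obtain ⟨t, rfl⟩ := Cardinal.mk_set_eq_one_iff.1 h4
  refine ⟨t, algebraicIndependent_unique_type_iff.1 hs.1, ?_⟩
  have h5 := hs.isAlgebraic_field
  rwa [Subtype.range_coe] at h5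

variable (k : Type u) [Field k] {X : Scheme.{u}} [X.Over (Spec (CommRingCat.of k))]

theorem toStalk_res {L : X.Modules} {U W : X.Opens} {e : Γ(L, U)} (he : IsGen e) (h : W ≤ U) {x : X} (hx : x ∈ W)
    (s : Coh.HH X L 0) : toStalk k (he.res h) x hx s = toStalk k he x (h hx) s := by
  rw [toStalk_apply, toStalk_apply]
  have h1 : coeffU (he.res h) (equivAdd L s) = ores h (coeffU he (equivAdd L s)) := by
    apply (he.res h).ext
    rw [coeffU_smul_gen, ← res_smul, coeffU_smul_gen, res_res]
  rw [h1]
  exact TopCat.Presheaf.germ_res_apply X.presheaf (homOfLE h) x hx _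

/-- The coefficient map as a linear map. -/
noncomputable def coefA {L : X.Modules} {U : X.Opens} {e : Γ(L, U)} (he : IsGen e) :
    Coh.HH X L 0 →ₗ[k] Γ(X, U) where
  toFun s := coeffU he (equivAdd L s)
  map_add' s t := by
    rw [map_add]
    unfold coeffU
    rw [map_add, map_add]
  map_smul' c s := by
    rw [equivAdd_smul_over]
    unfold coeffU
    rw [res_smul, map_smul, smul_eq_mul]
    rfl

theorem germ_coefA {L : X.Modules} {U : X.Opens} {e : Γ(L, U)} (he : IsGen e) {x : X} (hx : x ∈ U)
    (s : Coh.HH X L 0) : X.presheaf.germ U x hx (coefA k he s) = toStalk k he x hx s := rfl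

theorem coefA_injective [IsIntegral X] {L : X.Modules} (hL : PicF.IsInvertible L) {U : X.Opens} {e : Γ(L, U)}
    (he : IsGen e) (hU : (U : Set X).Nonempty) : Function.Injective (coefA k he) := by
  obtain ⟨x, hx⟩ := hU
  intro s t h
  apply toStalk_injective k hL he x hx
  rw [← germ_coefA, ← germ_coefA, h]

variable [IsIntegral X]

/-- Projection from a general point is birational if the series has dimension at least four. -/
theorem exists_open_fld [IsAlgClosed k] [CharZero k] [LocallyOfFiniteType (X ↘ Spec (CommRingCat.of k))]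
    (hdim : topologicalKrullDim X = 1)
    {L : X.Modules} (hL : PicF.IsInvertible L) {V : Submodule k (Coh.HH X L 0)} [Module.Finite k V]
    (hV : IntermediateField.adjoin k (ratios k V) = ⊤) (h4 : 4 ≤ Module.finrank k V) :
    ∃ U₀ : X.Opens, (U₀ : Set X).Nonempty ∧ ∀ p ∈ U₀, IsClosed ({p} : Set X) →
      IntermediateField.adjoin k (ratios k (V.comap (incl k L p))) = ⊤ := by
  obtain ⟨U', e', hU', he''⟩ := (isInvertible_iff L).1 hL (genericPoint X)
  obtain ⟨W, hW, hηW, hWU⟩ := exists_isAffineOpen_mem_and_subset (X := X) (x := genericPoint X) hU'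
  have he := he''.res hWU
  set e := res L hWU e'
  have hne : Nonempty W := ⟨⟨_, hηW⟩⟩
  have hfr : IsFractionRing Γ(X, W) X.functionField := functionField_isFractionRing_of_isAffineOpen X W hW
  have hft := finiteType k hW
  have hWdim : ringKrullDim Γ(X, W) = 1 :=
    Vancyc.H678.KDim.ringKrullDim_eq (X ↘ Spec (CommRingCat.of k)) (m := 1) (by rw [hdim]; rfl) hW ⟨_, hηW⟩
  obtain ⟨t, ht, halg⟩ := exists_t (k := k) (A := Γ(X, W)) (K := X.functionField) hWdim
  have hdom : IsDomain (Γ(X, W) ⊗[k] X.functionField) := by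
    have h1 : IsDomain (X.functionField ⊗[k] Γ(X, W)) := Fdesc.TensorDomain.isDomain_tensorProduct
    exact (Algebra.TensorProduct.comm k Γ(X, W) X.functionField).toMulEquiv.isDomain _
  have hinj := coefA_injective k hL he ⟨_, hηW⟩
  -- four independent sections
  obtain ⟨b, hb⟩ : ∃ b : Fin 4 → V, LinearIndependent k b := by
    have h5 := (Module.finBasis k V).linearIndependent
    exact ⟨_, h5.comp (Fin.castLE h4) (Fin.castLE_injective h4)⟩
  have hb' : LinearIndependent k (fun i => coefA k he (b i : Coh.HH X L 0)) := by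
    have h5 := hb.map' ((coefA k he).comp V.subtype) (LinearMap.ker_eq_bot.2 (hinj.comp Subtype.val_injective))
    exact h5
  have hcoef : ∀ s, algebraMap Γ(X, W) X.functionField (coefA k he s) = gen k he hηW s := fun s => rfl
  obtain ⟨f, hf, hspec⟩ := Trisec.exists_spec (k := k) (A := Γ(X, W)) (K := X.functionField) ht
    (V.map (coefA k he)) (fun i => coefA k he (b i)) (fun i => ⟨b i, (b i).2, rfl⟩) hb' (by
      rw [eq_top_iff, ← hV]
      apply IntermediateField.adjoin.mono
      intro z hz
      obtain ⟨s, hs, t, ht, ht0, h⟩ := (mem_ratios_iff k hL V he hηW z).1 hz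
      exact ⟨_, ⟨s, hs, rfl⟩, _, ⟨t, ht, rfl⟩, (map_ne_zero_iff _ hinj).2 ht0, h⟩)
  refine ⟨X.basicOpen f, ⟨genericPoint X, ?_⟩, fun p hp hpc => ?_⟩
  · rw [SetLike.mem_coe, X.mem_basicOpen _ _ hηW]
    have h1 : X.presheaf.germ W (genericPoint X) hηW f ≠ 0 := by
      intro h
      apply hf
      apply germ_injective_of_isIntegral X (U := W) (genericPoint X) hηW
      rw [h, map_zero]
    exact (isUnit_iff_ne_zero (G₀ := X.functionField)).2 h1
  have hpW : p ∈ W := X.basicOpen_le _ hp
  rw [X.mem_basicOpen _ _ hpW] at hp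
  obtain ⟨ε, hε⟩ := exists_valAt k hpc
  have h6 := hspec (ε.comp (germA k W p hpW)) (by
    intro h
    exact (IsLocalRing.mem_maximalIdeal _).1 ((hε _).1 h) hp)
  rw [eq_top_iff, ← h6, Trisec.fld, IntermediateField.adjoin_le_iff]
  rintro z ⟨_, ⟨s, hs, rfl⟩, _, ⟨t', ht', rfl⟩, hs0, ht0, htne, hz⟩
  apply IntermediateField.subset_adjoin
  have hmem : ∀ s : Coh.HH X L 0, (ε.comp (germA k W p hpW)) (coefA k he s) = 0 →
      ∃ s', incl k L p s' = s := by
    intro s hs
    have h7 : ¬ GenAt (equivAdd L s) p := by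
      rw [genAt_iff' k he hpW]
      exact (IsLocalRing.mem_maximalIdeal _).1 ((hε _).1 hs)
    exact (mem_range_incl k hL p s).2 h7
  obtain ⟨s, rfl⟩ := hmem _ hs0
  obtain ⟨t', rfl⟩ := hmem _ ht0
  let C : X.Opens := ⟨({p} : Set X)ᶜ, hpc.isOpen_compl⟩
  have hηC : genericPoint X ∈ C := by
    intro h
    have h8 : (Set.univ : Set X) ⊆ {p} := by
      intro y _
      have h9 : genericPoint X ⤳ y := genericPoint_specializes y
      rw [Set.mem_singleton_iff.1 h] at h9
      rw [specializes_iff_mem_closure, hpc.closure_eq] at h9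
      exact h9
    have h10 : Subsingleton X := ⟨fun a b => by
      rw [Set.mem_singleton_iff.1 (h8 (Set.mem_univ a)), Set.mem_singleton_iff.1 (h8 (Set.mem_univ b))]⟩
    have h11 : topologicalKrullDim X ≤ 0 := topologicalKrullDim_zero_of_discreteTopology X
    rw [hdim] at h11
    exact absurd h11 (by decide)
  have hWC : W ⊓ C ≤ W := inf_le_left
  have hpWC : p ∉ W ⊓ C := fun h => h.2 rfl
  refine ⟨s, hs, t', ht', ?_, W ⊓ C, _, isGen_vgen' (he.res hWC) hpWC, ⟨hηW, hηC⟩, ?_⟩
  · rintro rfl
    apply htne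
    rw [map_zero, map_zero]
  · have e1 := (toStalk_vgen' k (he.res hWC) hpWC (x := genericPoint X) ⟨hηW, hηC⟩ s).symm.trans
      (toStalk_res k he hWC ⟨hηW, hηC⟩ _)
    have e2 := (toStalk_vgen' k (he.res hWC) hpWC (x := genericPoint X) ⟨hηW, hηC⟩ t').symm.trans
      (toStalk_res k he hWC ⟨hηW, hηC⟩ _)
    exact (congrArg (fun w => z * w) e2).trans (hz.trans e1.symm)

end K331.Series
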