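import Groth.Agent.Curves.K331.SeriesAlg
import Groth.Agent.Curves.K320.PointVal
import Groth.Agent.VarietyA.CurveLin
import Groth.Agent.VarietyA.TwistSeq

/-!
# Linear series on a curve: generators at points, ratios of sections
-/

set_option autoImplicit false
universe u
open CategoryTheory CategoryTheory.Limits AlgebraicGeometry Opposite TopologicalSpace

namespace K331.Series

open Groth.Agent Groth.Agent.Fdesc.LocGen Groth.Agent.CurvesB.HZero Groth.Agent.CurvesB.InvEmb K320.PointVal

attribute [local instance] Curv2.stalkAlgebra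

section gen

variable {X : Scheme.{u}}

/-- `s` generates `L` at `x`. -/
def GenAt {L : X.Modules} (s : Γ(L, ⊤)) (x : X) : Prop :=
  ∃ V : X.Opens, x ∈ V ∧ IsGen (res L (le_top : V ≤ ⊤) s)

theorem genAt_iff {L : X.Modules} {U : X.Opens} {e : Γ(L, U)} (he : IsGen e) {x : X} (hx : x ∈ U)
    (s : Γ(L, ⊤)) : GenAt s x ↔ IsUnit (X.presheaf.germ U x hx (coeffU he s)) := by
  constructor
  · rintro ⟨V, hxV, hV⟩
    obtain ⟨a, ha⟩ := (hV.res (inf_le_left : V ⊓ U ≤ V)).exists_eq (res L (inf_le_right : V ⊓ U ≤ U) e)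
    have h1 := coeffU_smul_gen he s
    have h2 : ores (inf_le_right : V ⊓ U ≤ U) (coeffU he s) • res L (inf_le_right : V ⊓ U ≤ U) e =
        res L (inf_le_left : V ⊓ U ≤ V) (res L (le_top : V ≤ ⊤) s) := by
      rw [← res_smul, h1, res_res, res_res]
    have h3 : a * ores (inf_le_right : V ⊓ U ≤ U) (coeffU he s) = 1 := by
      apply (he.res (inf_le_right : V ⊓ U ≤ U)).ext
      rw [mul_smul, h2, ← ha, one_smul]
    have h4 := congrArg (X.presheaf.germ (V ⊓ U) x ⟨hxV, hx⟩) h3
    rw [map_mul, map_one] at h4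
    have h5 : X.presheaf.germ (V ⊓ U) x ⟨hxV, hx⟩ (ores (inf_le_right : V ⊓ U ≤ U) (coeffU he s)) =
        X.presheaf.germ U x hx (coeffU he s) :=
      TopCat.Presheaf.germ_res_apply X.presheaf (homOfLE inf_le_right) x ⟨hxV, hx⟩ (coeffU he s)
    rw [h5] at h4
    exact IsUnit.of_mul_eq_one_right _ h4
  · intro h
    have hx' : x ∈ X.basicOpen (coeffU he s) := (X.mem_basicOpen _ _ hx).2 h
    refine ⟨X.basicOpen (coeffU he s), hx', ?_⟩
    have h5 : res L (le_top : X.basicOpen (coeffU he s) ≤ ⊤) s =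
        ores (X.basicOpen_le (coeffU he s)) (coeffU he s) • res L (X.basicOpen_le (coeffU he s)) e := by
      rw [← res_smul, coeffU_smul_gen, res_res]
    rw [h5]
    exact (he.res _).unit_smul (X.toRingedSpace.isUnit_res_basicOpen (coeffU he s))

theorem GenAt.exists_open {L : X.Modules} {s : Γ(L, ⊤)} {x : X} (h : GenAt s x) :
    ∃ V : X.Opens, x ∈ V ∧ ∀ y ∈ V, GenAt s y := by
  obtain ⟨V, hx, hV⟩ := h
  exact ⟨V, hx, fun y hy => ⟨V, hy, hV⟩⟩

end gen

section frames

variable (k : Type u) [Field k] {X : Scheme.{u}} [X.Over (Spec (CommRingCat.of k))]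

theorem genAt_iff' {L : X.Modules} {U : X.Opens} {e : Γ(L, U)} (he : IsGen e) {x : X} (hx : x ∈ U)
    (s : Coh.HH X L 0) : GenAt (equivAdd L s) x ↔ IsUnit (toStalk k he x hx s) := genAt_iff he hx _

variable [IsIntegral X]

theorem generic_mem {U : X.Opens} {x : X} (hx : x ∈ U) : genericPoint X ∈ U :=
  (genericPoint_specializes x).mem_open U.2 hx

/-- The value at the generic point. -/
noncomputable abbrev gen {L : X.Modules} {U : X.Opens} {e : Γ(L, U)} (he : IsGen e) (hU : genericPoint X ∈ U) :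
    Coh.HH X L 0 →ₗ[k] X.functionField := toStalk k he (genericPoint X) hU

omit [IsIntegral X] in
theorem algebraMap_germ [IrreducibleSpace X] {U : X.Opens} {x : X} (hx : x ∈ U) (hU : genericPoint X ∈ U) (a : Γ(X, U)) :
    algebraMap (X.presheaf.stalk x) X.functionField (X.presheaf.germ U x hx a) =
      X.presheaf.germ U (genericPoint X) hU a :=
  TopCat.Presheaf.germ_stalkSpecializes_apply X.presheaf hx (genericPoint_specializes x) a

theorem algebraMap_toStalk {L : X.Modules} {U : X.Opens} {e : Γ(L, U)} (he : IsGen e) {x : X} (hx : x ∈ U)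
    (s : Coh.HH X L 0) : algebraMap (X.presheaf.stalk x) X.functionField (toStalk k he x hx s) =
      gen k he (generic_mem hx) s := algebraMap_germ hx _ _

theorem algebraMap_const {x : X} (c : k) :
    algebraMap (X.presheaf.stalk x) X.functionField (algebraMap k (X.presheaf.stalk x) c) =
      algebraMap k X.functionField c :=
  algebraMap_germ (U := ⊤) trivial trivial _

instance (x : X) : IsScalarTower k (X.presheaf.stalk x) X.functionField :=
  .of_algebraMap_eq fun c => (algebraMap_const k c).symm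

theorem gen_mul_gen {L : X.Modules} {U U' : X.Opens} {e : Γ(L, U)} {e' : Γ(L, U')} (he : IsGen e)
    (he' : IsGen e') (hU : genericPoint X ∈ U) (hU' : genericPoint X ∈ U') (s t : Coh.HH X L 0) :
    gen k he hU s * gen k he' hU' t = gen k he' hU' s * gen k he hU t := by
  change X.presheaf.germ U _ hU (coeffU he (equivAdd L s)) * X.presheaf.germ U' _ hU' (coeffU he' (equivAdd L t)) =
    X.presheaf.germ U' _ hU' (coeffU he' (equivAdd L s)) * X.presheaf.germ U _ hU (coeffU he (equivAdd L t))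
  set a := coeffU he (equivAdd L s) with ha
  set b := coeffU he (equivAdd L t) with hb
  set a' := coeffU he' (equivAdd L s) with ha'
  set b' := coeffU he' (equivAdd L t) with hb'
  have hW : genericPoint X ∈ U ⊓ U' := ⟨hU, hU'⟩
  have key : ores (inf_le_left : U ⊓ U' ≤ U) a * ores (inf_le_right : U ⊓ U' ≤ U') b' =
      ores (inf_le_right : U ⊓ U' ≤ U') a' * ores (inf_le_left : U ⊓ U' ≤ U) b := by
    apply (he.res (inf_le_left : U ⊓ U' ≤ U)).ext
    have e1 : ores (inf_le_left : U ⊓ U' ≤ U) a • res L (inf_le_left : U ⊓ U' ≤ U) e =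
        ores (inf_le_right : U ⊓ U' ≤ U') a' • res L (inf_le_right : U ⊓ U' ≤ U') e' := by
      rw [← res_smul, ← res_smul, ha, ha', coeffU_smul_gen, coeffU_smul_gen, res_res, res_res]
    have e2 : ores (inf_le_left : U ⊓ U' ≤ U) b • res L (inf_le_left : U ⊓ U' ≤ U) e =
        ores (inf_le_right : U ⊓ U' ≤ U') b' • res L (inf_le_right : U ⊓ U' ≤ U') e' := by
      rw [← res_smul, ← res_smul, hb, hb', coeffU_smul_gen, coeffU_smul_gen, res_res, res_res]
    rw [mul_comm, mul_smul, e1, mul_smul, e2, smul_smul, smul_smul, mul_comm]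
  have h1 := congrArg (X.presheaf.germ (U ⊓ U') (genericPoint X) hW) key
  rw [map_mul, map_mul] at h1
  have g1 : ∀ z : Γ(X, U), X.presheaf.germ (U ⊓ U') (genericPoint X) hW (ores (inf_le_left : U ⊓ U' ≤ U) z) =
      X.presheaf.germ U _ hU z := fun z =>
    TopCat.Presheaf.germ_res_apply X.presheaf (homOfLE inf_le_left) _ hW z
  have g2 : ∀ z : Γ(X, U'), X.presheaf.germ (U ⊓ U') (genericPoint X) hW (ores (inf_le_right : U ⊓ U' ≤ U') z) =
      X.presheaf.germ U' _ hU' z := fun z =>
    TopCat.Presheaf.germ_res_apply X.presheaf (homOfLE inf_le_right) _ hW z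
  rwa [g1, g1, g2, g2] at h1

theorem gen_injective {L : X.Modules} (hL : PicF.IsInvertible L) {U : X.Opens} {e : Γ(L, U)} (he : IsGen e)
    (hU : genericPoint X ∈ U) : Function.Injective (gen k he hU) := toStalk_injective k hL he _ hU

/-- Ratios of sections in `V`. -/
def ratios {L : X.Modules} (V : Submodule k (Coh.HH X L 0)) : Set X.functionField :=
  {z | ∃ s ∈ V, ∃ t ∈ V, t ≠ 0 ∧ ∃ (U : X.Opens) (e : Γ(L, U)) (he : IsGen e) (hU : genericPoint X ∈ U),
    z * gen k he hU t = gen k he hU s}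

theorem mem_ratios_iff {L : X.Modules} (hL : PicF.IsInvertible L) (V : Submodule k (Coh.HH X L 0))
    {U : X.Opens} {e : Γ(L, U)} (he : IsGen e) (hU : genericPoint X ∈ U) (z : X.functionField) :
    z ∈ ratios k V ↔ ∃ s ∈ V, ∃ t ∈ V, t ≠ 0 ∧ z * gen k he hU t = gen k he hU s := by
  constructor
  · rintro ⟨s, hs, t, ht, ht0, U', e', he', hU', h⟩
    refine ⟨s, hs, t, ht, ht0, ?_⟩
    have h1 := gen_mul_gen k he he' hU hU' s t
    have h2 : gen k he' hU' t ≠ 0 := (map_ne_zero_iff _ (gen_injective k hL he' hU')).2 ht0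
    apply mul_right_cancel₀ h2
    rw [h1, ← h]
    ring
  · rintro ⟨s, hs, t, ht, ht0, h⟩
    exact ⟨s, hs, t, ht, ht0, U, e, he, hU, h⟩

end frames

section vanish

open Groth.Agent.VarietyA.TwistDown Groth.Agent.VarietyA.CurveLin

variable (k : Type u) [Field k] {X : Scheme.{u}} [X.Over (Spec (CommRingCat.of k))]

/-- The inclusion `H⁰(L(-p)) → H⁰(L)`. -/
noncomputable def incl (L : X.Modules) (p : X) :
    Coh.HH X (vanish L p).toModules 0 →ₗ[k] Coh.HH X L 0 := hmapₗ k (vanish L p).ι 0

theorem equivAdd_incl (L : X.Modules) (p : X) (s : Coh.HH X (vanish L p).toModules 0) :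
    equivAdd L (incl k L p s) = (vanish L p).ι.app ⊤ (equivAdd _ s) := equivAdd_map _ _

theorem incl_injective (L : X.Modules) (p : X) : Function.Injective (incl k L p) := by
  intro s t h
  apply (equivAdd _).injective
  apply (vanish L p).ι_app_injective ⊤
  rw [← equivAdd_incl k, ← equivAdd_incl k, h]

theorem toStalk_vgen' {L : X.Modules} {p : X} {U : X.Opens} {e : Γ(L, U)} (he : IsGen e) (hp : p ∉ U) {x : X}
    (hx : x ∈ U) (s : Coh.HH X (vanish L p).toModules 0) :
    toStalk k he x hx (incl k L p s) = toStalk k (isGen_vgen' he hp) x hx s := by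
  rw [toStalk_apply, toStalk_apply, equivAdd_incl]
  congr 1
  apply he.ext
  rw [coeffU_smul_gen]
  have h1 := congrArg ((vanish L p).ι.app U) (coeffU_smul_gen (isGen_vgen' he hp) (equivAdd _ s))
  rw [Scheme.Modules.Hom.app_smul, ι_vgen'] at h1
  rw [h1, Fdesc.LocGen.app_res]

theorem toStalk_vgen {L : X.Modules} {p : X} {U : X.Opens} {e : Γ(L, U)} (he : IsGen e) {π : Γ(X, U)}
    (hπ : LocEq p U π) {x : X} (hx : x ∈ U) (s : Coh.HH X (vanish L p).toModules 0) :
    toStalk k he x hx (incl k L p s) = X.presheaf.germ U x hx π * toStalk k (isGen_vgen he hπ) x hx s := by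
  rw [toStalk_apply, toStalk_apply, equivAdd_incl, ← map_mul]
  congr 1
  apply he.ext
  rw [coeffU_smul_gen]
  have h1 := congrArg ((vanish L p).ι.app U) (coeffU_smul_gen (isGen_vgen he hπ) (equivAdd _ s))
  rw [Scheme.Modules.Hom.app_smul, ι_vgen, smul_smul] at h1
  rw [mul_comm, h1, Fdesc.LocGen.app_res]

theorem mem_range_incl {L : X.Modules} (hL : PicF.IsInvertible L) (p : X) (s : Coh.HH X L 0) :
    s ∈ LinearMap.range (incl k L p) ↔ ¬ GenAt (equivAdd L s) p := by
  obtain ⟨U, e, hpU, he⟩ := (isInvertible_iff L).1 hL p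
  rw [genAt_iff' k he hpU]
  have hg : Ega1.ModGerm.germ L ⊤ p trivial (equivAdd L s) =
      toStalk k he p hpU s • Ega1.ModGerm.germ L U p hpU e := by
    rw [toStalk_apply, ← Ega1.ModGerm.germ_smul, coeffU_smul_gen, germ_res']
  have key : (equivAdd L s) ∈ (vanish L p).obj ⊤ ↔
      toStalk k he p hpU s ∈ IsLocalRing.maximalIdeal (X.presheaf.stalk p) := by
    rw [mem_vanish]
    constructor
    · intro h
      have h1 := h trivial
      rw [hg, smul_germ_mem_mStalk_iff he] at h1
      exact h1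
    · intro h _
      rw [hg, smul_germ_mem_mStalk_iff he]
      exact h
  rw [← mem_nonunits_iff, ← IsLocalRing.mem_maximalIdeal, ← key]
  constructor
  · rintro ⟨t, rfl⟩
    rw [equivAdd_incl]
    exact (vanish L p).ι_app_mem _
  · intro h
    refine ⟨(equivAdd _).symm ((vanish L p).sec _ h), ?_⟩
    apply (equivAdd L).injective
    rw [equivAdd_incl, AddEquiv.apply_symm_apply]
    rfl

end vanish

section pts

variable (k : Type u) [Field k] {X : Scheme.{u}} [X.Over (Spec (CommRingCat.of k))]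

/-- The `k`-algebra structure on sections. -/
noncomputable abbrev secAlg (W : X.Opens) : Algebra k Γ(X, W) :=
  ((X.presheaf.map (homOfLE (le_top : W ≤ ⊤)).op).hom.comp
    (Coh.toGlobal (X ↘ Spec (CommRingCat.of k)))).toAlgebra

attribute [local instance] secAlg

theorem germ_algebraMap {W : X.Opens} {x : X} (hx : x ∈ W) (c : k) :
    X.presheaf.germ W x hx (algebraMap k Γ(X, W) c) = algebraMap k (X.presheaf.stalk x) c :=
  TopCat.Presheaf.germ_res_apply X.presheaf (homOfLE le_top) x hx _

/-- The germ map as a `k`-algebra homomorphism. -/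
noncomputable def germA (W : X.Opens) (x : X) (hx : x ∈ W) : Γ(X, W) →ₐ[k] X.presheaf.stalk x :=
  { (X.presheaf.germ W x hx).hom with commutes' := germ_algebraMap k hx }

theorem finiteType [LocallyOfFiniteType (X ↘ Spec (CommRingCat.of k))] {W : X.Opens} (hW : IsAffineOpen W) :
    Algebra.FiniteType k Γ(X, W) := by
  have h1 : ((X ↘ Spec (CommRingCat.of k)).appLE ⊤ W le_top).hom.FiniteType :=
    HasRingHomProperty.appLE (P := @LocallyOfFiniteType) (X ↘ Spec (CommRingCat.of k)) inferInstance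
      ⟨⊤, isAffineOpen_top _⟩ ⟨W, hW⟩ le_top
  have h2 : (Scheme.ΓSpecIso (CommRingCat.of k)).inv.hom.FiniteType :=
    RingHom.FiniteType.of_surjective _
      (ConcreteCategory.bijective_of_isIso (Scheme.ΓSpecIso (CommRingCat.of k)).inv).2
  have h3 := h1.comp h2
  have h4 : algebraMap k Γ(X, W) = ((X ↘ Spec (CommRingCat.of k)).appLE ⊤ W le_top).hom.comp
      (Scheme.ΓSpecIso (CommRingCat.of k)).inv.hom := rfl
  rw [← h4] at h3
  exact h3

theorem exists_valAt [IsAlgClosed k] [LocallyOfFiniteType (X ↘ Spec (CommRingCat.of k))] {x : X}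
    (hx : IsClosed ({x} : Set X)) : ∃ ε : X.presheaf.stalk x →ₐ[k] k, ∀ a, ε a = 0 ↔
      a ∈ IsLocalRing.maximalIdeal (X.presheaf.stalk x) := by
  have h1 : Function.Bijective (Algebra.ofId k (IsLocalRing.ResidueField (X.presheaf.stalk x))) := by
    refine ⟨(Algebra.ofId k (IsLocalRing.ResidueField (X.presheaf.stalk x))).toRingHom.injective, fun b => ?_⟩
    obtain ⟨a, rfl⟩ := IsLocalRing.residue_surjective b
    obtain ⟨c, hc⟩ := resConst_stalk k x hx a
    refine ⟨c, ?_⟩
    rw [← IsLocalRing.residue_eq_zero_iff, map_sub, sub_eq_zero] at hc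
    exact hc.symm
  let e := AlgEquiv.ofBijective _ h1
  refine ⟨e.symm.toAlgHom.comp (IsScalarTower.toAlgHom k (X.presheaf.stalk x)
    (IsLocalRing.ResidueField (X.presheaf.stalk x))), fun a => ?_⟩
  change e.symm (IsLocalRing.residue _ a) = 0 ↔ _
  rw [EmbeddingLike.map_eq_zero_iff, IsLocalRing.residue_eq_zero_iff]

end pts

end K331.Series
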