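import Groth.Agent.Curves.K331.Trisec
import Mathlib.RingTheory.DiscreteValuationRing.Basic

/-!
# Algebra for linear series: values of rational functions modulo an "ideal" of the function field
-/

set_option autoImplicit false

namespace K331.SeriesAlg

variable {k K : Type*} [Field k] [Field K] [Algebra k K]

/-- A `k`-subspace of `K` behaving like the maximal ideal (or a power of it) of a local subring. -/
structure Idl (I : Submodule k K) : Prop where
  mul : ∀ a ∈ I, ∀ b ∈ I, a * b ∈ I
  div : ∀ c : k, c ≠ 0 → ∀ a ∈ I, ∀ b ∈ I, a / (algebraMap k K c + b) ∈ I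
  ne : ∀ c : k, algebraMap k K c ∈ I → c = 0

variable {I : Submodule k K}

/-- Elements congruent to a constant. -/
def Idl.T (hI : Idl I) : Subalgebra k K where
  carrier := {z | ∃ c : k, z - algebraMap k K c ∈ I}
  mul_mem' := by
    rintro a b ⟨c, hc⟩ ⟨d, hd⟩
    refine ⟨c * d, ?_⟩
    have h : a * b - algebraMap k K (c * d) = (a - algebraMap k K c) * (b - algebraMap k K d) +
        (d • (a - algebraMap k K c) + c • (b - algebraMap k K d)) := by
      rw [Algebra.smul_def, Algebra.smul_def, map_mul]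
      ring
    rw [h]
    exact I.add_mem (hI.mul _ hc _ hd) (I.add_mem (I.smul_mem _ hc) (I.smul_mem _ hd))
  add_mem' := by
    rintro a b ⟨c, hc⟩ ⟨d, hd⟩
    refine ⟨c + d, ?_⟩
    have h : a + b - algebraMap k K (c + d) = (a - algebraMap k K c) + (b - algebraMap k K d) := by
      rw [map_add]
      ring
    rw [h]
    exact I.add_mem hc hd
  algebraMap_mem' c := ⟨c, by rw [sub_self]; exact I.zero_mem⟩

theorem Idl.mem_T (hI : Idl I) {z : K} : z ∈ hI.T ↔ ∃ c : k, z - algebraMap k K c ∈ I := Iff.rfl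

theorem Idl.div_mem (hI : Idl I) {P Q : K} (hP : P ∈ hI.T) (hQ : Q ∈ hI.T) (hQI : Q ∉ I) : P / Q ∈ hI.T := by
  obtain ⟨c, hc⟩ := hQ
  have hc0 : c ≠ 0 := by
    rintro rfl
    apply hQI
    rwa [map_zero, sub_zero] at hc
  have hac : algebraMap k K c ≠ 0 := (map_ne_zero _).2 hc0
  rw [div_eq_mul_inv]
  refine hI.T.mul_mem hP ⟨c⁻¹, ?_⟩
  have hQ0 : Q ≠ 0 := by
    rintro rfl
    exact hQI I.zero_mem
  have h : Q⁻¹ - algebraMap k K c⁻¹ = (-c⁻¹) • ((Q - algebraMap k K c) / (algebraMap k K c +
      (Q - algebraMap k K c))) := by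
    rw [add_sub_cancel, Algebra.smul_def, map_neg, map_inv₀]
    field_simp
    ring
  rw [h]
  exact I.smul_mem _ (hI.div c hc0 _ hc _ hc)

/-- If the generators are congruent to constants, so are all fractions. -/
theorem Idl.div_mem_of_adjoin (hI : Idl I) {S : Set K} (hS : ∀ z ∈ S, z ∈ hI.T) {P Q : K}
    (hP : P ∈ Algebra.adjoin k S) (hQ : Q ∈ Algebra.adjoin k S) (hQI : Q ∉ I) : P / Q ∈ hI.T := by
  have h := Algebra.adjoin_le (S := hI.T) hS
  exact hI.div_mem (h hP) (h hQ) hQI

/-- If `K` is generated as a field by `S`, almost all local rings of a finitely generated subalgebra consist of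
fractions of elements of `k[S]`. -/
theorem exists_clear {A : Type*} [CommRing A] [Algebra k A] [Algebra A K] [IsScalarTower k A K]
    [Algebra.FiniteType k A] {S : Set K} (hS : IntermediateField.adjoin k S = ⊤) :
    ∃ c ∈ Algebra.adjoin k S, c ≠ 0 ∧ ∀ a : A, ∃ n : ℕ, algebraMap A K a * c ^ n ∈ Algebra.adjoin k S := by
  classical
  have h1 : ∀ z : K, ∃ P ∈ Algebra.adjoin k S, ∃ Q ∈ Algebra.adjoin k S, Q ≠ 0 ∧ z * Q = P := by
    intro z
    have hz : z ∈ IntermediateField.adjoin k S := by
      rw [hS]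
      trivial
    obtain ⟨P, hP, Q, hQ, h⟩ := IntermediateField.mem_adjoin_iff_div.1 hz
    rcases eq_or_ne Q 0 with rfl | hQ0
    · exact ⟨0, zero_mem _, 1, one_mem _, one_ne_zero, by rw [h, div_zero, zero_mul]⟩
    · exact ⟨P, hP, Q, hQ, hQ0, by rw [h, div_mul_cancel₀ _ hQ0]⟩
  choose P hP Q hQ hQ0 hPQ using h1
  obtain ⟨G, hG⟩ := (inferInstance : Algebra.FiniteType k A).out
  let c : K := ∏ g ∈ G, Q (algebraMap A K g)
  have hc : c ∈ Algebra.adjoin k S := prod_mem fun g _ => hQ _
  refine ⟨c, hc, Finset.prod_ne_zero_iff.2 fun g _ => hQ0 _, ?_⟩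
  let T : Subalgebra k A :=
    { carrier := {a | ∃ n : ℕ, algebraMap A K a * c ^ n ∈ Algebra.adjoin k S}
      mul_mem' := by
        rintro a b ⟨n, hn⟩ ⟨m, hm⟩
        refine ⟨n + m, ?_⟩
        have : algebraMap A K (a * b) * c ^ (n + m) = (algebraMap A K a * c ^ n) * (algebraMap A K b * c ^ m) := by
          rw [map_mul, pow_add]
          ring
        rw [this]
        exact mul_mem hn hm
      add_mem' := by
        rintro a b ⟨n, hn⟩ ⟨m, hm⟩
        refine ⟨n + m, ?_⟩
        have : algebraMap A K (a + b) * c ^ (n + m) = (algebraMap A K a * c ^ n) * c ^ m +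
            (algebraMap A K b * c ^ m) * c ^ n := by
          rw [map_add, pow_add]
          ring
        rw [this]
        exact add_mem (mul_mem hn (pow_mem hc m)) (mul_mem hm (pow_mem hc n))
      algebraMap_mem' := fun r => ⟨0, by
        rw [pow_zero, mul_one, ← IsScalarTower.algebraMap_apply]
        exact Subalgebra.algebraMap_mem _ r⟩ }
  have hT : Algebra.adjoin k (G : Set A) ≤ T := by
    rw [Algebra.adjoin_le_iff]
    intro g hg
    refine ⟨1, ?_⟩
    rw [pow_one]
    have h2 : algebraMap A K g * c = P (algebraMap A K g) * ∏ g' ∈ G.erase g, Q (algebraMap A K g') := by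
      change _ * (∏ g ∈ G, Q (algebraMap A K g)) = _
      rw [← Finset.mul_prod_erase G (fun g => Q (algebraMap A K g)) hg, ← mul_assoc, hPQ]
    rw [h2]
    exact mul_mem (hP _) (prod_mem fun g' _ => hQ _)
  intro a
  exact hT (hG ▸ Algebra.mem_top)

end K331.SeriesAlg
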