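import Groth.Agent.Lefpen.H702.Generic
import Mathlib.FieldTheory.IsAlgClosed.AlgebraicClosure
import Mathlib.FieldTheory.Galois.Infinite
import Mathlib.RingTheory.TensorProduct.Free
import Mathlib.Algebra.Polynomial.Basis
import Mathlib.RingTheory.AlgebraicIndependent.Transcendental

/-!
# The trisecant lemma in terms of function fields (characteristic zero)

* `der_ext`: uniqueness of derivations of a function field of one variable.
* `core`: for two generic points `P = j x`, `Q = i x` of a non-planar curve, a third point `τ x` on the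
  line `P Q` is `P` or `Q`.
-/

set_option autoImplicit false

open TensorProduct

namespace K331.Trisec

section basic

variable {k K Ω : Type*} [Field k] [Field K] [Field Ω] [CharZero k] [Algebra k K] [Algebra k Ω]

/-- A derivation along an embedding `τ` killing `t`, with `K / k(t)` algebraic, is zero. -/
theorem der_zero (τ : K →ₐ[k] Ω) (t : K) [Algebra.IsAlgebraic (IntermediateField.adjoin k {t}) K]
    (δ : K → Ω) (hadd : ∀ x y, δ (x + y) = δ x + δ y) (hmul : ∀ x y, δ (x * y) = τ x * δ y + τ y * δ x)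
    (hk : ∀ c : k, δ (algebraMap k K c) = 0) (ht : δ t = 0) (x : K) : δ x = 0 := by
  letI := τ.toRingHom.toAlgebra
  have hst : IsScalarTower k K Ω := .of_algebraMap_eq' τ.comp_algebraMap.symm
  have h1 : ∀ z : K, z ∈ IntermediateField.adjoin k {t} → δ z = 0 := by
    have hone : δ 1 = 0 := by
      have := hk 1
      rwa [map_one] at this
    let F : IntermediateField k K :=
      { carrier := {z | δ z = 0}
        mul_mem' := fun {a b} ha hb => by
          change δ (a * b) = 0
          rw [hmul, show δ a = 0 from ha, show δ b = 0 from hb, mul_zero, mul_zero, add_zero]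
        add_mem' := fun {a b} ha hb => by
          change δ (a + b) = 0
          rw [hadd, show δ a = 0 from ha, show δ b = 0 from hb, add_zero]
        algebraMap_mem' := hk
        inv_mem' := fun a ha => by
          change δ a⁻¹ = 0
          rcases eq_or_ne a 0 with rfl | h0
          · rw [inv_zero]
            have := hk 0
            rwa [map_zero] at this
          · have h2 := hmul a a⁻¹
            rw [mul_inv_cancel₀ h0, hone, show δ a = 0 from ha, mul_zero, add_zero] at h2
            exact (mul_eq_zero.1 h2.symm).resolve_left ((map_ne_zero τ).2 h0) }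
    have h3 : IntermediateField.adjoin k {t} ≤ F := IntermediateField.adjoin_le_iff.2 (by
      rintro _ rfl
      exact ht)
    exact fun z hz => h3 hz
  let D : Derivation (IntermediateField.adjoin k {t}) K Ω := Derivation.mk'
    { toFun := δ
      map_add' := hadd
      map_smul' := fun c z => by
        rw [Algebra.smul_def, hmul]
        rw [h1 _ (show algebraMap (IntermediateField.adjoin k {t}) K c ∈ _ from c.2), mul_zero, add_zero]
        rfl }
    (fun a b => by
      change δ (a * b) = τ a * δ b + τ b * δ a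
      exact hmul a b)
  have : CharZero K := charZero_of_injective_algebraMap (algebraMap k K).injective
  have : CharZero (IntermediateField.adjoin k {t}) :=
    charZero_of_injective_algebraMap (algebraMap k (IntermediateField.adjoin k {t})).injective
  have h4 : Algebra.FormallyUnramified (IntermediateField.adjoin k {t}) K :=
    Algebra.FormallyUnramified.of_isSeparable _ _
  have h5 : D = 0 := by
    have h6 : Subsingleton (Ω[K⁄(IntermediateField.adjoin k {t})]) := h4.subsingleton_kaehlerDifferential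
    rw [← Derivation.liftKaehlerDifferential_comp D, Subsingleton.elim D.liftKaehlerDifferential 0]
    rfl
  exact congrArg (fun D : Derivation _ K Ω => D x) h5

/-- Two derivations along `τ` which agree at `t`. -/
theorem der_ext (τ : K →ₐ[k] Ω) (t : K) [Algebra.IsAlgebraic (IntermediateField.adjoin k {t}) K]
    (d : Derivation k K K) (hd : d t = 1) (D : Derivation k Ω Ω) (x : K) :
    D (τ x) = D (τ t) * τ (d x) := by
  have h := der_zero τ t (fun x => D (τ x) - D (τ t) * τ (d x))
    (fun x y => by simp only [map_add]; ring)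
    (fun x y => by simp only [map_mul, Derivation.leibniz, smul_eq_mul, map_add]; ring)
    (fun c => by simp) (by simp [hd]) x
  exact sub_eq_zero.1 h

/-- Linear disjointness of two embeddings. -/
def Disj (i j : K →ₐ[k] Ω) : Prop :=
  ∀ (n : ℕ) (a b : Fin n → K), LinearIndependent k b → ∑ l, i (a l) * j (b l) = 0 → ∀ l, a l = 0

theorem Disj.eq_zero₂ {i j : K →ₐ[k] Ω} (h : Disj i j) {b₀ b₁ : K} (hb : LinearIndependent k ![b₀, b₁])
    (a₀ a₁ : K) (h0 : i a₀ * j b₀ + i a₁ * j b₁ = 0) : a₀ = 0 ∧ a₁ = 0 := by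
  have := h 2 ![a₀, a₁] ![b₀, b₁] hb (by simpa [Fin.sum_univ_two] using h0)
  exact ⟨by simpa using this 0, by simpa using this 1⟩

theorem Disj.eq_zero₃ {i j : K →ₐ[k] Ω} (h : Disj i j) {b₀ b₁ b₂ : K} (hb : LinearIndependent k ![b₀, b₁, b₂])
    (a₀ a₁ a₂ : K) (h0 : i a₀ * j b₀ + i a₁ * j b₁ + i a₂ * j b₂ = 0) : a₀ = 0 ∧ a₁ = 0 ∧ a₂ = 0 := by
  have := h 3 ![a₀, a₁, a₂] ![b₀, b₁, b₂] hb (by simpa [Fin.sum_univ_three] using h0)
  exact ⟨by simpa using this 0, by simpa using this 1, by simpa using this 2⟩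

end basic

section core

variable {k K Ω : Type*} [Field k] [Field K] [Field Ω] [CharZero k] [Algebra k K] [Algebra k Ω]

/-- Everything used about the two generic points `i`, `j`. -/
structure Dat (i j : K →ₐ[k] Ω) (t : K) (d : Derivation k K K) (D₁ D₂ : Derivation k Ω Ω) : Prop where
  alg : Algebra.IsAlgebraic (IntermediateField.adjoin k {t}) K
  dt : d t = 1
  ker : ∀ x, d x = 0 → x ∈ Set.range (algebraMap k K)
  ij : Disj i j
  ji : Disj j i
  d1i : ∀ x, D₁ (i x) = i (d x)
  d1j : ∀ x, D₁ (j x) = 0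
  d2i : ∀ x, D₂ (i x) = 0
  d2j : ∀ x, D₂ (j x) = j (d x)

variable {i j : K →ₐ[k] Ω} {t : K} {d : Derivation k K K} {D₁ D₂ : Derivation k Ω Ω}

theorem Dat.swap (h : Dat i j t d D₁ D₂) : Dat j i t d D₂ D₁ where
  alg := h.alg
  dt := h.dt
  ker := h.ker
  ij := h.ji
  ji := h.ij
  d1i := h.d2j
  d1j := h.d2i
  d2i := h.d1j
  d2j := h.d1i

/-- Independence of derivatives. -/
theorem Dat.indep_d (h : Dat i j t d D₁ D₂) {n : ℕ} (x : Fin n → K)
    (hx : LinearIndependent k (Fin.cons 1 x : Fin (n + 1) → K)) : LinearIndependent k (fun l => d (x l)) := by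
  rw [Fintype.linearIndependent_iff] at hx ⊢
  intro c hc
  have h1 : d (∑ l, c l • x l) = 0 := by
    rw [map_sum]
    simpa using hc
  obtain ⟨a, ha⟩ := h.ker _ h1
  have h2 := hx (Fin.cons (-a) c) (by
    rw [Fin.sum_univ_succ]
    simp only [Fin.cons_zero, Fin.cons_succ]
    rw [← ha, neg_smul, Algebra.smul_def, mul_one]
    ring)
  intro l
  simpa using h2 l.succ

/-- The Wronskian of two elements independent of constants does not vanish. -/
theorem Dat.wronsk (h : Dat i j t d D₁ D₂) {a b : K} (hab : LinearIndependent k ![a, b])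
    (h0 : d a * b = a * d b) : False := by
  have hb : b ≠ 0 := hab.ne_zero 1
  have h1 : d (a / b) = 0 := by
    have h2 : d ((a / b) * b) = d a := by rw [div_mul_cancel₀ _ hb]
    rw [Derivation.leibniz, smul_eq_mul, smul_eq_mul] at h2
    have h3 : b * (b * d (a / b)) = 0 := by
      have : b * (a / b * d b + b * d (a / b)) = b * d a := by rw [h2]
      rw [mul_add, ← mul_assoc, mul_div_cancel₀ _ hb] at this
      linear_combination this + h0
    simpa [hb] using h3
  obtain ⟨c, hc⟩ := h.ker _ h1
  have h3 : a = c • b := by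
    rw [Algebra.smul_def, hc, div_mul_cancel₀ _ hb]
  rw [LinearIndependent.pair_iff] at hab
  have := hab 1 (-c) (by rw [one_smul, neg_smul, ← h3, add_neg_cancel])
  exact one_ne_zero this.1

/-- A tangent vector at `Q = i x` is not proportional to the secant direction. -/
theorem Dat.c1 (h : Dat i j t d D₁ D₂) {x y : K} (hxy : LinearIndependent k ![1, x, y])
    (h0 : i (d x) * (i y - j y) = i (d y) * (i x - j x)) : False := by
  have h1 := h.ij.eq_zero₃ hxy (d x * y - d y * x) (d y) (- d x) (by
    simp only [map_sub, map_mul, map_neg, map_one]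
    linear_combination h0)
  obtain ⟨-, -, h2⟩ := h1
  obtain ⟨c, hc⟩ := h.ker x (by simpa using h2)
  rw [Fintype.linearIndependent_iff] at hxy
  have := hxy ![-c, 1, 0] (by
    rw [Fin.sum_univ_three]
    simp only [Matrix.cons_val_zero, Matrix.cons_val_one, Matrix.cons_val]
    rw [← hc, neg_smul, Algebra.smul_def, mul_one, one_smul, zero_smul]
    ring) 1
  simp at this

theorem pair_of_triple {a b c : K} (h : LinearIndependent k ![a, b, c]) : LinearIndependent k ![b, c] := by
  have := h.comp ![(1 : Fin 3), 2] (by decide)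
  convert this using 1
  ext l
  fin_cases l <;> rfl

theorem Dat.indep_d₂ (h : Dat i j t d D₁ D₂) {x y : K} (hxy : LinearIndependent k ![1, x, y]) :
    LinearIndependent k ![d x, d y] := by
  have := h.indep_d ![x, y] hxy
  convert this using 1
  ext l
  fin_cases l <;> rfl

theorem Dat.indep_d₃ (h : Dat i j t d D₁ D₂) {x y z : K} (hxy : LinearIndependent k ![1, x, y, z]) :
    LinearIndependent k ![d x, d y, d z] := by
  have := h.indep_d ![x, y, z] hxy
  convert this using 1
  ext l
  fin_cases l <;> rfl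

/-- Tangent directions at two generic points are not proportional. -/
theorem Dat.c2 (h : Dat i j t d D₁ D₂) {x y : K} (hxy : LinearIndependent k ![1, x, y])
    (h0 : i (d x) * j (d y) = i (d y) * j (d x)) : False := by
  have h1 := h.indep_d₂ hxy
  have h1' : LinearIndependent k ![d y, d x] := by
    have := h1.comp ![(1 : Fin 2), 0] (by decide)
    convert this using 1
    ext l
    fin_cases l <;> rfl
  have h2 := h.ij.eq_zero₂ h1' (d x) (- d y) (by
    rw [map_neg]
    linear_combination h0)
  exact h1.ne_zero 0 h2.1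

/-- The core of the trisecant lemma. -/
theorem Dat.core (h : Dat i j t d D₁ D₂) (τ : K →ₐ[k] Ω) (x : Fin 3 → K)
    (hx : LinearIndependent k ![1, x 0, x 1, x 2]) (lam : Ω)
    (hτ : ∀ l, τ (x l) = j (x l) + lam * (i (x l) - j (x l))) : lam = 0 ∨ lam = 1 := by
  by_contra hne
  push Not at hne
  obtain ⟨hl0, hl1⟩ := hne
  have hl1' : 1 - lam ≠ 0 := sub_ne_zero.2 (Ne.symm hl1)
  have := h.alg
  have hx01 : LinearIndependent k ![1, x 0, x 1] := by
    have := hx.comp ![(0 : Fin 4), 1, 2] (by decide)
    convert this using 1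
    ext l
    fin_cases l <;> rfl
  obtain ⟨α, hα⟩ : ∃ α, ∀ z, D₁ (τ z) = α * τ (d z) := ⟨_, der_ext τ t d h.dt D₁⟩
  obtain ⟨β, hβ⟩ : ∃ β, ∀ z, D₂ (τ z) = β * τ (d z) := ⟨_, der_ext τ t d h.dt D₂⟩
  have e1 : ∀ l, α * τ (d (x l)) = D₁ lam * (i (x l) - j (x l)) + lam * i (d (x l)) := by
    intro l
    rw [← hα, hτ, map_add, Derivation.leibniz, map_sub, h.d1i, h.d1j]
    simp only [smul_eq_mul]
    ring
  have e2 : ∀ l, β * τ (d (x l)) = D₂ lam * (i (x l) - j (x l)) + (1 - lam) * j (d (x l)) := by
    intro l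
    rw [← hβ, hτ, map_add, Derivation.leibniz, map_sub, h.d2i, h.d2j]
    simp only [smul_eq_mul]
    ring
  have hα0 : α ≠ 0 := by
    rintro rfl
    refine h.c1 hx01 ?_
    have a0 := e1 0
    have a1 := e1 1
    apply mul_left_cancel₀ hl0
    linear_combination (i (x 0) - j (x 0)) * a1 - (i (x 1) - j (x 1)) * a0
  have hβ0 : β ≠ 0 := by
    rintro rfl
    refine h.swap.c1 hx01 ?_
    have a0 := e2 0
    have a1 := e2 1
    apply mul_left_cancel₀ hl1'
    linear_combination (i (x 1) - j (x 1)) * a0 - (i (x 0) - j (x 0)) * a1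
  -- coplanar tangents
  obtain ⟨a, b, c, ha, hb, e3⟩ : ∃ a b c : Ω, a ≠ 0 ∧ b ≠ 0 ∧ ∀ l, c * (i (x l) - j (x l)) =
      a * i (d (x l)) + b * j (d (x l)) := by
    refine ⟨- (β * lam), α * (1 - lam), β * D₁ lam - α * D₂ lam, neg_ne_zero.2 (mul_ne_zero hβ0 hl0),
      mul_ne_zero hα0 hl1', fun l => ?_⟩
    linear_combination α * e2 l - β * e1 l
  have hc : c ≠ 0 := by
    rintro rfl
    refine h.c2 hx01 ?_
    have a0 := e3 0
    have a1 := e3 1
    apply mul_left_cancel₀ ha
    apply mul_left_cancel₀ hb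
    linear_combination (-(b * j (d (x 1)))) * a0 + b * j (d (x 0)) * a1
  obtain ⟨a, b, ha, hb, e4⟩ : ∃ a b : Ω, a ≠ 0 ∧ b ≠ 0 ∧ ∀ l, i (x l) - j (x l) =
      a * i (d (x l)) + b * j (d (x l)) := by
    refine ⟨a / c, b / c, div_ne_zero ha hc, div_ne_zero hb hc, fun l => ?_⟩
    apply mul_left_cancel₀ hc
    rw [e3 l]
    field_simp
  have e5 : ∀ l, (1 - D₁ a) * i (d (x l)) - a * i (d (d (x l))) = D₁ b * j (d (x l)) := by
    intro l
    have h5 := congrArg D₁ (e4 l)
    rw [map_sub, map_add, Derivation.leibniz, Derivation.leibniz, h.d1i, h.d1i, h.d1j, h.d1j] at h5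
    simp only [smul_eq_mul] at h5
    linear_combination h5
  have hx3 := h.indep_d₃ hx
  have hx2 := h.indep_d₂ hx01
  have hb1 : D₁ b ≠ 0 := by
    intro h0
    refine h.wronsk hx2 ?_
    have a0 := e5 0
    have a1 := e5 1
    rw [h0, zero_mul] at a0 a1
    apply i.injective
    rw [map_mul, map_mul]
    apply mul_left_cancel₀ ha
    linear_combination (i (d (x 0))) * a1 - (i (d (x 1))) * a0
  have h6 := h.ij.eq_zero₃ hx3 (d (x 1) * d (d (x 2)) - d (d (x 1)) * d (x 2))
    (d (d (x 0)) * d (x 2) - d (x 0) * d (d (x 2))) (d (x 0) * d (d (x 1)) - d (d (x 0)) * d (x 1)) (by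
      simp only [map_sub, map_mul]
      apply mul_left_cancel₀ hb1
      rw [mul_zero]
      linear_combination (- (i (d (x 1)) * i (d (d (x 2))) - i (d (d (x 1))) * i (d (x 2)))) * e5 0
        - (i (d (d (x 0))) * i (d (x 2)) - i (d (x 0)) * i (d (d (x 2)))) * e5 1
        - (i (d (x 0)) * i (d (d (x 1))) - i (d (d (x 0))) * i (d (x 1))) * e5 2)
  exact h.wronsk hx2 (by linear_combination - h6.2.2)

end core

section exist

variable {k K Ω : Type*} [Field k] [Field K] [Field Ω] [CharZero k] [Algebra k K] [Algebra k Ω]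

theorem exists_der_one {t : Ω} (ht : Transcendental k t) : ∃ D : Derivation k Ω Ω, D t = 1 := by
  obtain ⟨D, hD⟩ := Groth.Agent.Lefpen.H702.Generic.exists_derivation (k := k) (fun _ : Unit => t)
    (algebraicIndependent_unique_type_iff.2 ht) (fun _ => 1)
  exact ⟨D, hD ()⟩

/-- A derivation of `K` over `k` with kernel `k`. -/
theorem exists_d [IsAlgClosed k] {t : K} (ht : Transcendental k t)
    [Algebra.IsAlgebraic (IntermediateField.adjoin k {t}) K] :
    ∃ d : Derivation k K K, d t = 1 ∧ ∀ x, d x = 0 → x ∈ Set.range (algebraMap k K) := by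
  obtain ⟨d, hd⟩ := exists_der_one ht
  refine ⟨d, hd, fun x hx => ?_⟩
  by_contra hne
  have h1 : Transcendental k x := by
    intro halg
    apply hne
    have halg' : IsAlgebraic k x := by
      by_contra hh
      exact hh halg
    exact minpoly.mem_range_of_degree_eq_one k x
      (IsAlgClosed.degree_eq_one_of_irreducible k (minpoly.irreducible halg'.isIntegral))
  obtain ⟨D, hD⟩ := exists_der_one h1
  have h2 := der_ext (AlgHom.id k K) t d hd D x
  rw [AlgHom.id_apply, AlgHom.id_apply, AlgHom.id_apply, hD, hx, mul_zero] at h2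
  exact one_ne_zero h2

theorem exists_D {i j : K →ₐ[k] Ω} (hji : Disj j i) {t : K} (ht : Transcendental k t) :
    ∃ D : Derivation k Ω Ω, (∀ x, D (j x) = 0) ∧ D (i t) = 1 := by
  letI := j.toRingHom.toAlgebra
  have hst : IsScalarTower k K Ω := .of_algebraMap_eq' j.comp_algebraMap.symm
  have : CharZero K := charZero_of_injective_algebraMap (algebraMap k K).injective
  have h1 : Transcendental K (i t) := by
    rw [transcendental_iff]
    intro P hP
    rw [Polynomial.aeval_eq_sum_range] at hP
    have hlin : LinearIndependent k (fun l : Fin (P.natDegree + 1) => t ^ (l : ℕ)) := by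
      have h2 : LinearIndependent k (fun l : ℕ => t ^ l) := by
        have h3 := (Polynomial.basisMonomials k).linearIndependent.map' (Polynomial.aeval t).toLinearMap
          (LinearMap.ker_eq_bot.2 (transcendental_iff_injective.1 ht))
        have h4 : (fun l : ℕ => t ^ l) = ⇑(Polynomial.aeval t).toLinearMap ∘ ⇑(Polynomial.basisMonomials k) := by
          ext l
          simp
        rw [h4]
        exact h3
      exact h2.comp _ Fin.val_injective
    have h2 := hji (P.natDegree + 1) (fun l => P.coeff l) (fun l => t ^ (l : ℕ)) hlin (by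
      rw [← hP, Finset.sum_range]
      refine Finset.sum_congr rfl fun l _ => ?_
      rw [map_pow, Algebra.smul_def]
      rfl)
    ext n
    rw [Polynomial.coeff_zero]
    by_cases hn : n < P.natDegree + 1
    · exact h2 ⟨n, hn⟩
    · exact Polynomial.coeff_eq_zero_of_natDegree_lt (by omega)
  obtain ⟨D, hD⟩ := exists_der_one h1
  refine ⟨D.restrictScalars k, fun x => ?_, hD⟩
  exact D.map_algebraMap x

theorem exists_dat [IsAlgClosed k] {i j : K →ₐ[k] Ω} (hij : Disj i j) (hji : Disj j i) {t : K}
    (ht : Transcendental k t) [halg : Algebra.IsAlgebraic (IntermediateField.adjoin k {t}) K] :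
    ∃ (d : Derivation k K K) (D₁ D₂ : Derivation k Ω Ω), Dat i j t d D₁ D₂ := by
  obtain ⟨d, hd, hk⟩ := exists_d ht
  obtain ⟨D₁, h1, h1'⟩ := exists_D hji ht
  obtain ⟨D₂, h2, h2'⟩ := exists_D hij ht
  exact ⟨d, D₁, D₂, halg, hd, hk, hij, hji, fun x => by rw [der_ext i t d hd, h1', one_mul], h1, h2,
    fun x => by rw [der_ext j t d hd, h2', one_mul]⟩

end exist

section main

variable {k K M : Type*} [Field k] [Field K] [Field M] [CharZero k] [Algebra k K] [Algebra k M]

theorem Disj.comp {Ω : Type*} [Field Ω] [Algebra k Ω] {i j : K →ₐ[k] M} (h : Disj i j) (f : M →ₐ[k] Ω) :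
    Disj (f.comp i) (f.comp j) := by
  intro n a b hb h0
  refine h n a b hb ?_
  apply f.injective
  rw [map_zero, map_sum]
  simpa using h0

theorem Disj.ne {i j : K →ₐ[k] M} (h : Disj i j) {x : K} (hx : LinearIndependent k ![1, x]) : i x ≠ j x := by
  intro h0
  have := (h.eq_zero₂ hx (-x) 1 (by rw [map_neg, map_one, map_one]; linear_combination - h0)).2
  exact one_ne_zero this

variable [IsAlgClosed k]

/-- The trisecant lemma: the function field of `X × X` is generated by the second factor and the slopes of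
the secant lines. -/
theorem mem_of_ratio (i j : K →ₐ[k] M) (hij : Disj i j) (hji : Disj j i) {t : K} (ht : Transcendental k t)
    [halg : Algebra.IsAlgebraic (IntermediateField.adjoin k {t}) K]
    (hM : ∀ D : Derivation k M M, (∀ x, D (i x) = 0) → (∀ x, D (j x) = 0) → D = 0)
    {ι : Type*} (x : ι → K) (l₀ l₁ l₂ : ι) (hx : LinearIndependent k ![1, x l₀, x l₁, x l₂])
    (hgen : IntermediateField.adjoin k (Set.range x) = ⊤) (E : IntermediateField k M)
    (hj : ∀ z, j z ∈ E) (hr : ∀ l, (i (x l) - j (x l)) / (i (x l₀) - j (x l₀)) ∈ E) (z : K) : i z ∈ E := by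
  have hx2 : LinearIndependent k ![1, x l₀] := by
    have := hx.comp ![(0 : Fin 4), 1] (by decide)
    convert this using 1
    ext l
    fin_cases l <;> rfl
  have hx3 : LinearIndependent k ![1, x l₀, x l₁] := by
    have := hx.comp ![(0 : Fin 4), 1, 2] (by decide)
    convert this using 1
    ext l
    fin_cases l <;> rfl
  have hne := sub_ne_zero.2 (hij.ne hx2)
  obtain ⟨d, D₁, D₂, hdat⟩ := exists_dat hij hji ht
  -- `M` is algebraic over `E`
  have halgE : Algebra.IsAlgebraic E M := by
    constructor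
    intro y
    by_contra hy
    have : CharZero E := charZero_of_injective_algebraMap (algebraMap k E).injective
    obtain ⟨D, hD⟩ := exists_der_one (k := E) (t := y) hy
    have hDE : ∀ w ∈ E, D w = 0 := fun w hw => D.map_algebraMap (⟨w, hw⟩ : E)
    have h1 := der_ext i t d hdat.dt (D.restrictScalars k)
    have h2 : D.restrictScalars k (i t) = 0 := by
      by_contra hα
      refine hdat.c1 hx3 ?_
      have h3 := hDE _ (hr l₁)
      have h4 : D (i (x l₁) - j (x l₁)) = (i (x l₁) - j (x l₁)) / (i (x l₀) - j (x l₀)) *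
          D (i (x l₀) - j (x l₀)) := by
        conv_lhs => rw [← div_mul_cancel₀ (i (x l₁) - j (x l₁)) hne]
        rw [Derivation.leibniz, h3, smul_eq_mul, smul_zero, add_zero]
      rw [map_sub, map_sub, hDE _ (hj _), hDE _ (hj _), sub_zero, sub_zero] at h4
      have h5 := h1 (x l₁)
      have h6 := h1 (x l₀)
      change D (i (x l₁)) = _ at h5
      change D (i (x l₀)) = _ at h6
      rw [h5, h6] at h4
      apply mul_left_cancel₀ hα
      have hne1 : (i (x l₀) - j (x l₀)) ≠ 0 := hne
      field_simp at h4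
      linear_combination (-(D.restrictScalars k (i t))) * h4
    have h3 : D.restrictScalars k = 0 := by
      refine hM _ (fun x => ?_) (fun x => hDE _ (hj x))
      rw [h1, h2, zero_mul]
    have h4 : D y = 0 := congrArg (fun D : Derivation k M M => D y) h3
    rw [hD] at h4
    exact one_ne_zero h4
  by_contra hz
  have : CharZero E := charZero_of_injective_algebraMap (algebraMap k E).injective
  let Ω := AlgebraicClosure M
  have hst : IsScalarTower E M Ω := inferInstance
  have hst2 : IsScalarTower k E Ω := .of_algebraMap_eq' (by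
    rw [IsScalarTower.algebraMap_eq k M Ω, IsScalarTower.algebraMap_eq k E M,
      IsScalarTower.algebraMap_eq E M Ω, RingHom.comp_assoc])
  have hac : IsAlgClosure E Ω := ⟨inferInstance, Algebra.IsAlgebraic.trans E M Ω⟩
  have hG : IsGalois E Ω := inferInstance
  have h1 : algebraMap M Ω (i z) ∉ (⊥ : IntermediateField E Ω) := by
    intro h
    obtain ⟨w, hw⟩ := IntermediateField.mem_bot.1 h
    rw [IsScalarTower.algebraMap_apply E M Ω] at hw
    have := (algebraMap M Ω).injective hw
    apply hz
    rw [← this]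
    exact w.2
  rw [InfiniteGalois.mem_bot_iff_fixed] at h1
  push Not at h1
  obtain ⟨σ, hσ⟩ := h1
  let f : M →ₐ[k] Ω := IsScalarTower.toAlgHom k M Ω
  let σ' : Ω →ₐ[k] Ω := (σ.toAlgHom.restrictScalars k)
  have hσE : ∀ w ∈ E, σ' (f w) = f w := fun w hw => σ.commutes ⟨w, hw⟩
  let i' := f.comp i
  let j' := f.comp j
  let τ : K →ₐ[k] Ω := σ'.comp i'
  obtain ⟨d', D₁', D₂', hdat'⟩ := exists_dat (hij.comp f) (hji.comp f) ht
  have hne' : f (i (x l₀)) - f (j (x l₀)) ≠ 0 := by
    rw [← map_sub]
    exact (map_ne_zero f).2 hne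
  let lam : Ω := (τ (x l₀) - j' (x l₀)) / (i' (x l₀) - j' (x l₀))
  have hτ : ∀ l, τ (x l) = j' (x l) + lam * (i' (x l) - j' (x l)) := by
    intro l
    have h2 := hσE _ (hr l)
    have h3 : i' (x l) - j' (x l) = f ((i (x l) - j (x l)) / (i (x l₀) - j (x l₀))) *
        (i' (x l₀) - j' (x l₀)) := by
      change f (i (x l)) - f (j (x l)) = _ * (f (i (x l₀)) - f (j (x l₀)))
      rw [← map_sub, ← map_sub, ← map_mul]
      exact congrArg f (div_mul_cancel₀ _ hne).symm
    have h4 := congrArg σ' h3
    rw [map_mul, h2, map_sub, map_sub] at h4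
    have h5 : ∀ w, σ' (j' w) = j' w := fun w => hσE _ (hj w)
    rw [h5, h5] at h4
    change τ (x l) - j' (x l) = _ * (τ (x l₀) - j' (x l₀)) at h4
    rw [sub_eq_iff_eq_add'] at h4
    rw [h4, h3]
    have hne'' : i' (x l₀) - j' (x l₀) ≠ 0 := hne'
    have h6 : lam * (i' (x l₀) - j' (x l₀)) = τ (x l₀) - j' (x l₀) := div_mul_cancel₀ _ hne''
    rw [← h6]
    ring
  have h2 := hdat'.core τ ![x l₀, x l₁, x l₂] hx lam (by
    intro l
    fin_cases l
    · exact hτ l₀
    · exact hτ l₁
    · exact hτ l₂)
  rcases h2 with h0 | h1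
  · have h3 := hτ l₀
    rw [h0, zero_mul, add_zero] at h3
    have h4 : σ' (f (i (x l₀))) = σ' (f (j (x l₀))) := h3.trans (hσE _ (hj _)).symm
    have h5 := σ'.injective h4
    exact hij.ne hx2 (f.injective h5)
  · have h3 : ∀ l, τ (x l) = i' (x l) := by
      intro l
      rw [hτ l, h1, one_mul, add_sub_cancel]
    have h4 : IntermediateField.adjoin k (Set.range x) ≤
        (AlgHom.equalizer τ i').toIntermediateField (fun w hw => by
          rw [AlgHom.mem_equalizer] at hw ⊢
          rw [map_inv₀, map_inv₀, hw]) := by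
      rw [IntermediateField.adjoin_le_iff]
      rintro _ ⟨l, rfl⟩
      exact h3 l
    have h5 : z ∈ IntermediateField.adjoin k (Set.range x) := by
      rw [hgen]
      trivial
    exact hσ (h4 h5)

end main

/-! ### Specialisation -/

section spec

variable {k A K : Type*} [Field k] [CommRing A] [IsDomain A] [Field K] [Algebra k A] [Algebra k K] [Algebra A K]
  [IsScalarTower k A K] [IsFractionRing A K]

/-- Evaluation of the first factor at a `k`-point. -/
noncomputable def ev (p : A →ₐ[k] k) : A ⊗[k] K →ₐ[k] K :=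
  Algebra.TensorProduct.productMap ((Algebra.ofId k K).comp p) (AlgHom.id k K)

omit [IsDomain A] [Algebra A K] [IsScalarTower k A K] [IsFractionRing A K] in
theorem ev_tmul (p : A →ₐ[k] k) (a : A) (x : K) : ev p (a ⊗ₜ x) = p a • x := by
  rw [ev, Algebra.TensorProduct.productMap_apply_tmul, Algebra.smul_def]
  rfl

omit [IsDomain A] [Algebra A K] [IsScalarTower k A K] [IsFractionRing A K] in
theorem exists_ne {z : A ⊗[k] K} (hz : z ≠ 0) : ∃ f : A, f ≠ 0 ∧ ∀ p : A →ₐ[k] k, p f ≠ 0 → ev p z ≠ 0 := by
  let b := Module.Basis.ofVectorSpace k K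
  let B := Algebra.TensorProduct.basis A b
  have h1 : B.repr z ≠ 0 := fun h => hz (B.repr.map_eq_zero_iff.1 h)
  obtain ⟨l, hl⟩ := Finsupp.ne_iff.1 h1
  refine ⟨B.repr z l, hl, fun p hp h0 => hp ?_⟩
  have key : ∀ w : A ⊗[k] K, b.repr (ev p w) l = p (B.repr w l) := by
    intro w
    induction w using TensorProduct.induction_on with
    | zero => simp
    | add x y hx hy => rw [map_add, map_add, Finsupp.add_apply, hx, hy, map_add, Finsupp.add_apply, map_add]
    | tmul a x =>
      rw [ev_tmul, map_smul, Finsupp.smul_apply, Algebra.TensorProduct.basis_repr_tmul, Finsupp.smul_apply,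
        Finsupp.mapRange_apply, smul_eq_mul, smul_eq_mul, map_mul, AlgHom.commutes]
      rfl
  rw [← key, h0, map_zero]
  rfl

end spec

section tens

variable {k U W : Type*} [Field k] [AddCommGroup U] [Module k U] [AddCommGroup W] [Module k W]

theorem exists_dual {n : ℕ} {b : Fin n → U} (hb : LinearIndependent k b) (m : Fin n) :
    ∃ g : U →ₗ[k] k, ∀ l, g (b l) = if l = m then 1 else 0 := by
  obtain ⟨g, hg⟩ := LinearMap.exists_extend ((Module.Basis.span hb).coord m)
  refine ⟨g, fun l => ?_⟩
  have h1 : g (Module.Basis.span hb l : U) = (Module.Basis.span hb).coord m (Module.Basis.span hb l) :=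
    congrArg (fun φ => φ (Module.Basis.span hb l)) hg
  rw [Module.Basis.coord_apply, Module.Basis.repr_self, Finsupp.single_apply] at h1
  rw [← h1, Module.Basis.span_apply]

theorem tmul_left {n : ℕ} {b : Fin n → U} (hb : LinearIndependent k b) (a : Fin n → W)
    (h0 : ∑ l, b l ⊗ₜ[k] a l = 0) (m : Fin n) : a m = 0 := by
  obtain ⟨g, hg⟩ := exists_dual hb m
  have h1 := congrArg (fun z => TensorProduct.lid k W (LinearMap.rTensor W g z)) h0
  simpa [hg] using h1

theorem tmul_right {n : ℕ} {b : Fin n → U} (hb : LinearIndependent k b) (a : Fin n → W)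
    (h0 : ∑ l, a l ⊗ₜ[k] b l = 0) (m : Fin n) : a m = 0 := by
  obtain ⟨g, hg⟩ := exists_dual hb m
  have h1 := congrArg (fun z => TensorProduct.rid k W (LinearMap.lTensor W g z)) h0
  simpa [hg] using h1

end tens

section spec2

variable {k A K M : Type*} [Field k] [CommRing A] [IsDomain A] [Field K] [Algebra k A] [Algebra k K] [Algebra A K]
  [IsScalarTower k A K] [IsFractionRing A K] [Field M] [Algebra k M] [Algebra (A ⊗[k] K) M]
  [IsScalarTower k (A ⊗[k] K) M] (hM : Function.Injective (algebraMap (A ⊗[k] K) M))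

variable (k A K M) in
/-- The moving point. -/
noncomputable def ii : K →ₐ[k] M :=
  (IsScalarTower.toAlgHom k (A ⊗[k] K) M).comp Algebra.TensorProduct.includeRight

variable (k A K M) in
noncomputable def j0 : A →ₐ[k] M :=
  (IsScalarTower.toAlgHom k (A ⊗[k] K) M).comp Algebra.TensorProduct.includeLeft

include hM in
omit [IsDomain A] [Algebra A K] [IsScalarTower k A K] [IsFractionRing A K] in
theorem j0_injective : Function.Injective (j0 k A K M) := by
  exact hM.comp (Algebra.TensorProduct.includeLeft_injective (R := k) (S := k) (A := A) (B := K)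
    (algebraMap k K).injective)

/-- The centre of projection. -/
noncomputable def jj : K →ₐ[k] M := IsFractionRing.liftAlgHom (j0_injective hM)

omit [IsDomain A] in
theorem jj_algebraMap (a : A) : jj hM (algebraMap A K a) = j0 k A K M a :=
  IsFractionRing.lift_algebraMap (j0_injective hM) a

omit [IsDomain A] [Algebra A K] [IsScalarTower k A K] [IsFractionRing A K] in
theorem algebraMap_tmul (a : A) (x : K) :
    algebraMap (A ⊗[k] K) M (a ⊗ₜ x) = j0 k A K M a * ii k A K M x := by
  have h1 : a ⊗ₜ[k] x = (a ⊗ₜ[k] (1 : K)) * ((1 : A) ⊗ₜ[k] x) := by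
    rw [Algebra.TensorProduct.tmul_mul_tmul, mul_one, one_mul]
  rw [h1, map_mul]
  rfl

include hM in
/-- Common denominators. -/
theorem exists_den {n : ℕ} (b : Fin n → K) :
    ∃ (e : A) (b' : Fin n → A), e ≠ 0 ∧ ∀ l, algebraMap A K (b' l) = algebraMap A K e * b l := by
  obtain ⟨e, he⟩ := IsLocalization.exist_integer_multiples_of_finite (nonZeroDivisors A) b
  choose b' hb' using he
  refine ⟨e, b', nonZeroDivisors.ne_zero e.2, fun l => ?_⟩
  rw [hb', Algebra.smul_def]

theorem disj_ij : Disj (ii k A K M) (jj hM) := by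
  intro n a b hb h0
  obtain ⟨e, b', he, hb'⟩ := exists_den (k := k) (A := A) hM b
  have he' : algebraMap A K e ≠ 0 := (map_ne_zero_iff _ (IsFractionRing.injective A K)).2 he
  have h1 : LinearIndependent k b' := by
    rw [Fintype.linearIndependent_iff] at hb ⊢
    intro c hc
    apply hb c
    apply mul_left_cancel₀ he'
    rw [mul_zero, Finset.mul_sum]
    have h2 := congrArg (algebraMap A K) hc
    rw [map_sum, map_zero] at h2
    rw [← h2]
    refine Finset.sum_congr rfl fun l _ => ?_
    rw [mul_smul_comm, ← hb', Algebra.smul_def, Algebra.smul_def, map_mul,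
      ← IsScalarTower.algebraMap_apply k A K]
  refine tmul_left h1 a ?_
  apply hM
  rw [map_zero, map_sum]
  have h3 : ∑ l, algebraMap (A ⊗[k] K) M (b' l ⊗ₜ[k] a l) =
      jj hM (algebraMap A K e) * ∑ l, ii k A K M (a l) * jj hM (b l) := by
    rw [Finset.mul_sum]
    refine Finset.sum_congr rfl fun l _ => ?_
    rw [algebraMap_tmul, ← jj_algebraMap hM, hb', map_mul]
    ring
  rw [h3, h0, mul_zero]

theorem disj_ji : Disj (jj hM) (ii k A K M) := by
  intro n a b hb h0
  obtain ⟨e, a', he, ha'⟩ := exists_den (k := k) (A := A) hM a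
  have he' : algebraMap A K e ≠ 0 := (map_ne_zero_iff _ (IsFractionRing.injective A K)).2 he
  have h1 : ∀ l, a' l = 0 := by
    refine tmul_right hb a' ?_
    apply hM
    rw [map_zero, map_sum]
    have h3 : ∑ l, algebraMap (A ⊗[k] K) M (a' l ⊗ₜ[k] b l) =
        jj hM (algebraMap A K e) * ∑ l, jj hM (a l) * ii k A K M (b l) := by
      rw [Finset.mul_sum]
      refine Finset.sum_congr rfl fun l _ => ?_
      rw [algebraMap_tmul, ← jj_algebraMap hM, ha', map_mul]
      ring
    rw [h3, h0, mul_zero]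
  intro l
  have h4 := ha' l
  rw [h1 l, map_zero] at h4
  exact (mul_eq_zero.1 h4.symm).resolve_left he'

/-- The field of the projection from the point `p`: ratios of elements of `V` vanishing at `p`. -/
noncomputable def fld (K : Type*) [Field K] [Algebra k K] [Algebra A K] (V : Submodule k A) (p : A →ₐ[k] k) :
    IntermediateField k K :=
  IntermediateField.adjoin k {z : K | ∃ s ∈ V, ∃ t ∈ V, p s = 0 ∧ p t = 0 ∧ t ≠ 0 ∧
    z * algebraMap A K t = algebraMap A K s}

/-- Elements of `M` which specialise at almost all `p` to the field of the projection from `p`. -/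
def Good (V : Submodule k A) (m : M) : Prop :=
  ∃ (f : A) (a b : A ⊗[k] K), f ≠ 0 ∧ b ≠ 0 ∧ algebraMap (A ⊗[k] K) M b * m = algebraMap (A ⊗[k] K) M a ∧
    ∀ p : A →ₐ[k] k, p f ≠ 0 → ev p b ≠ 0 ∧ ev p a / ev p b ∈ fld K V p

omit [IsDomain A] [IsScalarTower k A K] [IsFractionRing A K] in
theorem Good.algebraMap' (V : Submodule k A) [Nontrivial A] (c : k) : Good (K := K) V (algebraMap k M c) := by
  refine ⟨1, algebraMap k _ c, 1, one_ne_zero, ?_, ?_, fun p _ => ?_⟩
  · have : Nontrivial (A ⊗[k] K) := by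
      have h1 := Algebra.TensorProduct.includeLeft_injective (R := k) (S := k) (A := A) (B := K)
        (algebraMap k K).injective
      exact h1.nontrivial
    exact one_ne_zero
  · rw [map_one, one_mul, ← IsScalarTower.algebraMap_apply]
  · rw [map_one, AlgHom.commutes, div_one]
    exact ⟨one_ne_zero, (fld K V p).algebraMap_mem c⟩

variable [IsDomain (A ⊗[k] K)]

omit [IsScalarTower k A K] [IsFractionRing A K] [IsScalarTower k (A ⊗[k] K) M] [Algebra k M] in
theorem Good.add {V : Submodule k A} {m m' : M} (h : Good (K := K) V m) (h' : Good (K := K) V m') :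
    Good (K := K) V (m + m') := by
  obtain ⟨f, a, b, hf, hb, h1, h2⟩ := h
  obtain ⟨f', a', b', hf', hb', h1', h2'⟩ := h'
  refine ⟨f * f', a * b' + a' * b, b * b', mul_ne_zero hf hf', mul_ne_zero hb hb', ?_, fun p hp => ?_⟩
  · rw [map_mul, map_add, map_mul, map_mul, ← h1, ← h1']
    ring
  · rw [map_mul] at hp
    obtain ⟨h3, h4⟩ := h2 p (left_ne_zero_of_mul hp)
    obtain ⟨h3', h4'⟩ := h2' p (right_ne_zero_of_mul hp)
    rw [map_mul, map_add, map_mul, map_mul]
    refine ⟨mul_ne_zero h3 h3', ?_⟩
    have h5 : (ev p a * ev p b' + ev p a' * ev p b) / (ev p b * ev p b') =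
        ev p a / ev p b + ev p a' / ev p b' := by
      field_simp
    rw [h5]
    exact add_mem h4 h4'

omit [IsScalarTower k A K] [IsFractionRing A K] [IsScalarTower k (A ⊗[k] K) M] [Algebra k M] in
theorem Good.mul {V : Submodule k A} {m m' : M} (h : Good (K := K) V m) (h' : Good (K := K) V m') :
    Good (K := K) V (m * m') := by
  obtain ⟨f, a, b, hf, hb, h1, h2⟩ := h
  obtain ⟨f', a', b', hf', hb', h1', h2'⟩ := h'
  refine ⟨f * f', a * a', b * b', mul_ne_zero hf hf', mul_ne_zero hb hb', ?_, fun p hp => ?_⟩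
  · rw [map_mul, map_mul, ← h1, ← h1']
    ring
  · rw [map_mul] at hp
    obtain ⟨h3, h4⟩ := h2 p (left_ne_zero_of_mul hp)
    obtain ⟨h3', h4'⟩ := h2' p (right_ne_zero_of_mul hp)
    rw [map_mul, map_mul]
    refine ⟨mul_ne_zero h3 h3', ?_⟩
    rw [mul_div_mul_comm]
    exact mul_mem h4 h4'

include hM in
omit [IsScalarTower k A K] [IsFractionRing A K] in
theorem Good.inv {V : Submodule k A} {m : M} (h : Good (K := K) V m) : Good (K := K) V m⁻¹ := by
  rcases eq_or_ne m 0 with rfl | hm
  · rw [inv_zero]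
    have := Good.algebraMap' (K := K) (M := M) V (0 : k)
    rwa [map_zero] at this
  obtain ⟨f, a, b, hf, hb, h1, h2⟩ := h
  have ha : a ≠ 0 := by
    rintro rfl
    rw [map_zero] at h1
    exact (mul_ne_zero ((map_ne_zero_iff _ hM).2 hb) hm) h1
  obtain ⟨f', hf', h3⟩ := exists_ne ha
  refine ⟨f * f', b, a, mul_ne_zero hf hf', ha, ?_, fun p hp => ?_⟩
  · rw [← h1, mul_assoc, mul_inv_cancel₀ hm, mul_one]
  · rw [map_mul] at hp
    obtain ⟨h3', h4⟩ := h2 p (left_ne_zero_of_mul hp)
    refine ⟨h3 p (right_ne_zero_of_mul hp), ?_⟩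
    rw [← inv_div]
    exact inv_mem h4

/-- The good elements form a field. -/
def goodFld (V : Submodule k A) : IntermediateField k M where
  carrier := {m | Good (K := K) V m}
  mul_mem' h h' := h.mul h'
  add_mem' h h' := h.add h'
  algebraMap_mem' c := Good.algebraMap' V c
  inv_mem' _ h := h.inv hM

theorem good_jj (V : Submodule k A) (c : K) : Good (K := K) V (jj (M := M) hM c) := by
  obtain ⟨a, b, hb, rfl⟩ := IsFractionRing.div_surjective (A := A) c
  have hb0 : b ≠ 0 := nonZeroDivisors.ne_zero hb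
  have hj := (map_ne_zero_iff _ (j0_injective (k := k) (A := A) (K := K) hM)).2 hb0
  refine ⟨b, a ⊗ₜ 1, b ⊗ₜ 1, hb0, ?_, ?_, fun p hp => ?_⟩
  · intro h0
    apply hj
    have h1 := congrArg (algebraMap (A ⊗[k] K) M) h0
    rw [algebraMap_tmul, map_one, mul_one, map_zero] at h1
    exact h1
  · rw [algebraMap_tmul, algebraMap_tmul, map_one, mul_one, mul_one, map_div₀, jj_algebraMap, jj_algebraMap,
      mul_div_cancel₀ _ hj]
  · rw [ev_tmul, ev_tmul]
    have h1 : p b • (1 : K) ≠ 0 := smul_ne_zero hp one_ne_zero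
    refine ⟨h1, ?_⟩
    exact div_mem ((fld K V p).smul_mem (one_mem _)) ((fld K V p).smul_mem (one_mem _))

/-- The tensor `v ⊗ s - s ⊗ v`. -/
noncomputable def del (k : Type*) {A : Type*} (K : Type*) [Field k] [CommRing A] [Field K] [Algebra k A]
    [Algebra k K] [Algebra A K] (v s : A) : A ⊗[k] K :=
  v ⊗ₜ algebraMap A K s - s ⊗ₜ algebraMap A K v

omit [IsDomain A] [IsFractionRing A K] [IsDomain (A ⊗[k] K)] in
theorem ev_del (v s : A) (p : A →ₐ[k] k) : ev p (del k K v s) = algebraMap A K (p v • s - p s • v) := by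
  rw [del, map_sub, ev_tmul, ev_tmul, map_sub, Algebra.smul_def, Algebra.smul_def, Algebra.smul_def,
    Algebra.smul_def, map_mul, map_mul, ← IsScalarTower.algebraMap_apply k A K,
    ← IsScalarTower.algebraMap_apply k A K]

theorem algebraMap_del (v s : A) : algebraMap (A ⊗[k] K) M (del k K v s) =
    jj hM (algebraMap A K v) * ii k A K M (algebraMap A K s) -
      jj hM (algebraMap A K s) * ii k A K M (algebraMap A K v) := by
  rw [del, map_sub, algebraMap_tmul, algebraMap_tmul, jj_algebraMap, jj_algebraMap]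

include hM in
omit [IsFractionRing A K] [IsScalarTower k (A ⊗[k] K) M] [Algebra k M] in
theorem good_ratio {V : Submodule k A} {v s t : A} (hv : v ∈ V) (hs : s ∈ V) (ht : t ∈ V)
    (h0 : del k K v t ≠ 0) : Good (K := K) V (algebraMap (A ⊗[k] K) M (del k K v s) /
      algebraMap (A ⊗[k] K) M (del k K v t)) := by
  obtain ⟨f, hf, h1⟩ := exists_ne h0
  refine ⟨f, del k K v s, del k K v t, hf, h0, mul_div_cancel₀ _ ((map_ne_zero_iff _ hM).2 h0), fun p hp => ?_⟩
  refine ⟨h1 p hp, ?_⟩
  have h2 := h1 p hp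
  rw [ev_del] at h2 ⊢
  rw [ev_del]
  apply IntermediateField.subset_adjoin
  refine ⟨_, V.sub_mem (V.smul_mem (p v) hs) (V.smul_mem (p s) hv), _,
    V.sub_mem (V.smul_mem (p v) ht) (V.smul_mem (p t) hv), ?_, ?_, ?_, div_mul_cancel₀ _ h2⟩
  · rw [map_sub, map_smul, map_smul, smul_eq_mul, smul_eq_mul]
    ring
  · rw [map_sub, map_smul, map_smul, smul_eq_mul, smul_eq_mul]
    ring
  · intro h3
    rw [h3, map_zero] at h2
    exact h2 rfl

end spec2

section final

variable {k A K : Type*} [Field k] [IsAlgClosed k] [CharZero k] [CommRing A] [IsDomain A] [Field K] [Algebra k A]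
  [Algebra k K] [Algebra A K] [IsScalarTower k A K] [IsFractionRing A K] [IsDomain (A ⊗[k] K)]

/-- Projection from a general point of a non-planar curve is birational. -/
theorem exists_spec [Algebra.FiniteType k A] {t : K} (ht : Transcendental k t)
    [halg : Algebra.IsAlgebraic (IntermediateField.adjoin k {t}) K] (V : Submodule k A) (v : Fin 4 → A)
    (hv : ∀ l, v l ∈ V) (hlin : LinearIndependent k v)
    (hgen : IntermediateField.adjoin k {z : K | ∃ s ∈ V, ∃ t ∈ V, t ≠ 0 ∧
      z * algebraMap A K t = algebraMap A K s} = ⊤) :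
    ∃ f : A, f ≠ 0 ∧ ∀ p : A →ₐ[k] k, p f ≠ 0 → fld K V p = ⊤ := by
  let M := FractionRing (A ⊗[k] K)
  have hM : Function.Injective (algebraMap (A ⊗[k] K) M) := IsFractionRing.injective _ _
  let i := ii k A K M
  let j := jj (M := M) hM
  have hinj : Function.Injective (algebraMap A K) := IsFractionRing.injective A K
  have hv0 : algebraMap A K (v 0) ≠ 0 := (map_ne_zero_iff _ hinj).2 (hlin.ne_zero 0)
  let x : V → K := fun s => algebraMap A K s / algebraMap A K (v 0)
  have hlin' : LinearIndependent k ![1, x ⟨v 1, hv 1⟩, x ⟨v 2, hv 2⟩, x ⟨v 3, hv 3⟩] := by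
    rw [Fintype.linearIndependent_iff] at hlin ⊢
    intro c hc
    apply hlin c
    apply hinj
    rw [map_zero, map_sum]
    have h1 := congrArg (fun z => algebraMap A K (v 0) * z) hc
    rw [mul_zero, Finset.mul_sum] at h1
    refine Eq.trans (Finset.sum_congr rfl fun l _ => ?_) h1
    rw [mul_smul_comm, Algebra.smul_def, map_mul, ← IsScalarTower.algebraMap_apply k A K, Algebra.smul_def]
    congr 1
    fin_cases l
    · exact (mul_one _).symm
    · exact (mul_div_cancel₀ _ hv0).symm
    · exact (mul_div_cancel₀ _ hv0).symm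
    · exact (mul_div_cancel₀ _ hv0).symm
  have hlin2 : LinearIndependent k ![1, x ⟨v 1, hv 1⟩] := by
    have := hlin'.comp ![(0 : Fin 4), 1] (by decide)
    convert this using 1
    ext l
    fin_cases l <;> rfl
  have hgen' : IntermediateField.adjoin k (Set.range x) = ⊤ := by
    rw [eq_top_iff, ← hgen, IntermediateField.adjoin_le_iff]
    rintro z ⟨s, hs, t, ht, ht0, hz⟩
    have ht0' : algebraMap A K t ≠ 0 := (map_ne_zero_iff _ hinj).2 ht0
    have h1 : z = x ⟨s, hs⟩ / x ⟨t, ht⟩ := by
      change z = (algebraMap A K s / algebraMap A K (v 0)) / (algebraMap A K t / algebraMap A K (v 0))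
      rw [← hz]
      field_simp
    rw [h1]
    exact div_mem (IntermediateField.subset_adjoin _ _ ⟨_, rfl⟩) (IntermediateField.subset_adjoin _ _ ⟨_, rfl⟩)
  have hDer : ∀ D : Derivation k M M, (∀ x, D (i x) = 0) → (∀ x, D (j x) = 0) → D = 0 := by
    intro D h1 h2
    have h3 : ∀ z : A ⊗[k] K, D (algebraMap (A ⊗[k] K) M z) = 0 := by
      intro z
      induction z using TensorProduct.induction_on with
      | zero => rw [map_zero, map_zero]
      | add a b ha hb => rw [map_add, map_add, ha, hb, add_zero]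
      | tmul a y =>
        rw [algebraMap_tmul, ← jj_algebraMap hM, Derivation.leibniz]
        change j _ • D (i y) + i y • D (j _) = 0
        rw [h1, h2, smul_zero, smul_zero, add_zero]
    ext m
    obtain ⟨a, b, hb, rfl⟩ := IsFractionRing.div_surjective (A := A ⊗[k] K) m
    have hb' : algebraMap (A ⊗[k] K) M b ≠ 0 := (map_ne_zero_iff _ hM).2 (nonZeroDivisors.ne_zero hb)
    have h4 := h3 a
    rw [← div_mul_cancel₀ (algebraMap (A ⊗[k] K) M a) hb', Derivation.leibniz, h3 b, smul_zero, zero_add,
      smul_eq_mul] at h4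
    exact (mul_eq_zero.1 h4).resolve_left hb'
  have key : ∀ z, i z ∈ goodFld (K := K) hM V := by
    intro z
    refine mem_of_ratio i j (disj_ij hM) (disj_ji hM) ht hDer x ⟨v 1, hv 1⟩ ⟨v 2, hv 2⟩ ⟨v 3, hv 3⟩ hlin' hgen'
      (goodFld hM V) (good_jj hM V) (fun l => ?_) z
    have hd : ∀ s : V, algebraMap (A ⊗[k] K) M (del k K (v 0) s) =
        j (algebraMap A K (v 0)) * i (algebraMap A K (v 0)) * (i (x s) - j (x s)) := by
      intro s
      rw [algebraMap_del hM]
      change j _ * i _ - j _ * i _ = _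
      have h5 : algebraMap A K s = x s * algebraMap A K (v 0) := (div_mul_cancel₀ _ hv0).symm
      rw [h5, map_mul, map_mul]
      ring
    have hji0 : j (algebraMap A K (v 0)) * i (algebraMap A K (v 0)) ≠ 0 :=
      mul_ne_zero ((map_ne_zero j).2 hv0) ((map_ne_zero i).2 hv0)
    have h1 := (disj_ij (k := k) (A := A) hM).ne hlin2
    have h2 : del k K (v 0) (v 1) ≠ 0 := by
      intro h0
      have h3 := hd ⟨v 1, hv 1⟩
      change algebraMap (A ⊗[k] K) M (del k K (v 0) (v 1)) = _ at h3
      rw [h0, map_zero] at h3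
      exact mul_ne_zero hji0 (sub_ne_zero.2 h1) h3.symm
    have h3 := good_ratio (M := M) hM (hv 0) l.2 (hv 1) h2
    have h4 : algebraMap (A ⊗[k] K) M (del k K (v 0) l) / algebraMap (A ⊗[k] K) M (del k K (v 0) (v 1)) =
        (i (x l) - j (x l)) / (i (x ⟨v 1, hv 1⟩) - j (x ⟨v 1, hv 1⟩)) := by
      rw [hd l, hd ⟨v 1, hv 1⟩, mul_div_mul_left _ _ hji0]
    rw [h4] at h3
    exact h3
  -- specialise
  have hz : ∀ z : K, ∃ f : A, f ≠ 0 ∧ ∀ p : A →ₐ[k] k, p f ≠ 0 → z ∈ fld K V p := by
    intro z
    obtain ⟨f, a, b, hf, hb, h1, h2⟩ := key z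
    refine ⟨f, hf, fun p hp => ?_⟩
    obtain ⟨h3, h4⟩ := h2 p hp
    have h5 : b * ((1 : A) ⊗ₜ[k] z) = a := by
      apply hM
      rw [map_mul, ← h1, algebraMap_tmul, map_one, one_mul]
    rw [← h5, map_mul, ev_tmul, map_one, one_smul, mul_div_cancel_left₀ _ h3] at h4
    exact h4
  obtain ⟨S, hS⟩ := (inferInstance : Algebra.FiniteType k A).out
  choose f hf hfz using hz
  refine ⟨∏ a ∈ S, f (algebraMap A K a), Finset.prod_ne_zero_iff.2 fun a _ => hf _, fun p hp => ?_⟩
  rw [map_prod, Finset.prod_ne_zero_iff] at hp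
  have h1 : ∀ a : A, algebraMap A K a ∈ fld K V p := by
    have h2 : Algebra.adjoin k (S : Set A) ≤ (fld K V p).toSubalgebra.comap (IsScalarTower.toAlgHom k A K) := by
      rw [Algebra.adjoin_le_iff]
      intro a ha
      exact hfz _ p (hp a ha)
    intro a
    exact h2 (hS ▸ Algebra.mem_top)
  rw [eq_top_iff]
  intro z _
  obtain ⟨a, b, hb, rfl⟩ := IsFractionRing.div_surjective (A := A) z
  exact div_mem (h1 a) (h1 b)

end final

end K331.Trisec
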