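import Groth.Agent.Curves.K331.ProjSer
import Groth.Agent.Curves.K319.VA
import Groth.Agent.ProjDeg.K657.SepFinal
import Groth.Agent.Ega2.H18.PnExist

/-!
# Very ample modules on curves: the complete linear series, Castelnuovo's inequality

* `exists_closedImmersion`: a very ample `L` with `h⁰(L) = n + 1` embeds the curve in `P^n`.
* `three_mul_le_of_isVA`: `h⁰(L²) ≥ 3 r` for very ample special `L` in characteristic zero.
-/

set_option autoImplicit false
universe u
open CategoryTheory CategoryTheory.Limits AlgebraicGeometry Opposite TopologicalSpace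

namespace K331.VACast

open Groth.Agent Groth.Agent.Fdesc.LocGen Groth.Agent.CurvesB.HZero K320.PointVal K331.Series
open Groth.Agent.VarietyA.TwistDown Groth.Agent.Grpsch.PicGrp K532.CurvePic K319.PicCD K319.VA K319.Setup K319.Base
open Groth.Agent.Dix.IdealModCartier IsLocalRing

variable (k : Type u) [Field k] {X : Scheme.{u}} [X.Over (Spec (CommRingCat.of k))]

theorem genAt_iff_mem {L : X.Modules} (s : Γ(L, ⊤)) (x : X) : GenAt s x ↔ x ∈ CohB1.genLocus L (homOf s) := by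
  rw [mem_genLocus_iff]
  constructor
  · rintro ⟨V, hV, h⟩
    refine ⟨V, hV, ?_⟩
    rw [← res_sec (homOf s) (le_top : V ≤ ⊤), sec_homOf, res_refl]
    exact h
  · rintro ⟨V, hV, h⟩
    refine ⟨V, hV, ?_⟩
    rw [← res_sec (homOf s) (le_top : V ≤ ⊤), sec_homOf, res_refl] at h
    exact h

theorem genAt_sec_iff {L : X.Modules} (s : Coh.structureModule X ⟶ L) (x : X) :
    GenAt (sec s ⊤) x ↔ x ∈ CohB1.genLocus L s := by
  rw [mem_genLocus_iff]
  constructor
  · rintro ⟨V, hV, h⟩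
    rw [res_sec] at h
    exact ⟨V, hV, h⟩
  · rintro ⟨V, hV, h⟩
    refine ⟨V, hV, ?_⟩
    rw [res_sec]
    exact h

theorem not_genAt_iff {L : X.Modules} (hL : PicF.IsInvertible L) (s : Γ(L, ⊤)) (p : X) :
    ¬ GenAt s p ↔ Ega1.ModGerm.germ L ⊤ p trivial s ∈ mStalk L p := by
  obtain ⟨U, e, hpU, he⟩ := (isInvertible_iff L).1 hL p
  rw [genAt_iff he hpU]
  have hg : Ega1.ModGerm.germ L ⊤ p trivial s =
      X.presheaf.germ U p hpU (coeffU he s) • Ega1.ModGerm.germ L U p hpU e := by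
    rw [← Ega1.ModGerm.germ_smul, coeffU_smul_gen, germ_res']
  rw [hg, smul_germ_mem_mStalk_iff he, IsLocalRing.mem_maximalIdeal]
  rfl

variable {k} [IsAlgClosed k] [IsIntegral X] [IsProper (X ↘ (Spec (CommRingCat.of k)))]

/-- The criterion for closed immersions by a spanning family of sections. -/
theorem isClosedImmersion (hX : Reg X) {n : ℕ} (f : X ⟶ CohB1.ProjSpace n k)
    (hf : f ≫ CohB1.ProjSpace.toSpec n k = (X ↘ (Spec (CommRingCat.of k))))
    (hva : IsVA k X ((Scheme.Modules.pullback f).obj (Twist.twistProjSpace n k 1)))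
    (hspan : ∀ t : Γ((Scheme.Modules.pullback f).obj (Twist.twistProjSpace n k 1), ⊤), ∃ c : Fin (n + 1) → k,
      t = ∑ i, ProjUP.toGlobal (X ↘ (Spec (CommRingCat.of k))) (c i) •
        ProjUP.pullSec f (Twist.twistProjSpace n k 1) (ProjUP.coord n k i)) : IsClosedImmersion f := by
  have hN : PicF.IsInvertible ((Scheme.Modules.pullback f).obj (Twist.twistProjSpace n k 1)) :=
    Groth.Agent.Ega2.H296.PnGen.isInvertible_pullback_twist f
  have hnoeth := isNoeth k X
  refine K657.SepFinal.isClosedImmersion hf ?_ ?_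
  · intro P Q hP hQ hne
    have h1 := NB_ideal_of_isVA k X hX hN hva ⟨P, hP⟩ ⟨Q, hQ⟩
    obtain ⟨s, hs1, hs2⟩ := (NB_ideal_iff_of_ne P hP hN hne.symm).mp h1
    obtain ⟨c, hc⟩ := hspan (sec s ⊤)
    refine ⟨c, Or.inl ⟨?_, ?_⟩⟩
    · have h2 := (not_genAt_iff hN (sec s ⊤) P).1 (fun h => hs1 ((genAt_sec_iff s P).1 h))
      rw [hc] at h2
      exact h2
    · intro h2
      have h3 := (not_genAt_iff hN (sec s ⊤) Q).2 (by rw [hc]; exact h2)
      exact h3 ((genAt_sec_iff s Q).2 hs2)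
  · intro P hP
    have h1 := NB_ideal_of_isVA k X hX hN hva ⟨P, hP⟩ ⟨P, hP⟩
    have hE := isEff_I k X hX.dim hX.reg P hP
    obtain ⟨V, hPV, e, s, a, he, ha, ham, ham2⟩ :=
      (NB_ideal_self_iff P hP hE hN (sq_ne k X hX ⟨P, hP⟩)).mp h1
    obtain ⟨c, hc⟩ := hspan (sec s ⊤)
    have hd := isDVR k X hX.dim hX.reg (ne_genericPoint hX.dim hP)
    obtain ⟨ϖ, hϖ⟩ := IsDiscreteValuationRing.exists_irreducible (X.presheaf.stalk P)
    have ham' := ham
    rw [hϖ.maximalIdeal_eq, Ideal.mem_span_singleton] at ham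
    obtain ⟨u, hu⟩ := ham
    have huu : IsUnit u := by
      by_contra hcon
      apply ham2
      rw [hu, sq]
      refine Ideal.mul_mem_mul ?_ ((mem_maximalIdeal _).mpr hcon)
      rw [hϖ.maximalIdeal_eq]
      exact Ideal.mem_span_singleton_self _
    have hv : Ega1.ModGerm.germ _ ⊤ P trivial (sec s ⊤) = X.presheaf.germ V P hPV a • Ega1.ModGerm.germ _ V P hPV e := by
      rw [← Ega1.ModGerm.germ_smul, ha, ← res_sec s (le_top : V ≤ ⊤), germ_res']
    refine le_sup_of_le_left ?_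
    rw [Submodule.smul_le]
    rintro r hr m -
    obtain ⟨z, rfl⟩ := exists_smul_germ_eq he P hPV m
    have h3 : ∃ y, r = y * X.presheaf.germ V P hPV a := by
      rw [hϖ.maximalIdeal_eq, Ideal.mem_span_singleton] at hr
      obtain ⟨w, rfl⟩ := hr
      obtain ⟨u', rfl⟩ := huu
      refine ⟨w * ((u'⁻¹ : (X.presheaf.stalk P)ˣ) : X.presheaf.stalk P), ?_⟩
      rw [hu, mul_comm ϖ w, mul_assoc, mul_comm ϖ, ← mul_assoc ((u'⁻¹ : (X.presheaf.stalk P)ˣ) : X.presheaf.stalk P),
        Units.inv_mul, one_mul]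
    obtain ⟨y, rfl⟩ := h3
    have h4 : (y * X.presheaf.germ V P hPV a) • z • Ega1.ModGerm.germ _ V P hPV e =
        (y * z) • Ega1.ModGerm.germ _ ⊤ P trivial (sec s ⊤) := by
      rw [hv, smul_smul, smul_smul]
      congr 1
      ring
    rw [h4]
    refine Submodule.smul_mem _ _ (Submodule.subset_span ⟨c, ?_, ?_⟩)
    · rw [hc]
    · rw [hv]
      exact (smul_germ_mem_mStalk_iff he P hPV _).2 ham'

/-- A very ample module with `n + 1` sections embeds the curve in `P^n`. -/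
theorem exists_closedImmersion (hX : Reg X) {L : X.Modules} (hL : PicF.IsInvertible L) (hva : IsVA k X L) {n : ℕ}
    (hn : Module.finrank k (Coh.HH X L 0) = n + 1) : ∃ i : X ⟶ CohB1.ProjSpace n k, IsClosedImmersion i ∧
      i ≫ CohB1.ProjSpace.toSpec n k = (X ↘ (Spec (CommRingCat.of k))) := by
  have hfin := finite_HH (hX.isCurve (k := k)) hL 0
  obtain ⟨b⟩ : Nonempty (Module.Basis (Fin (n + 1)) k (Coh.HH X L 0)) := ⟨Module.finBasisOfFinrankEq k _ hn⟩
  let s : Fin (n + 1) → Γ(L, ⊤) := fun i => equivAdd L (b i)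
  have hs : ∀ t : Γ(L, ⊤), ∃ c : Fin (n + 1) → k,
      t = ∑ i, ProjUP.toGlobal (X ↘ (Spec (CommRingCat.of k))) (c i) • s i := by
    intro t
    refine ⟨fun i => b.repr ((equivAdd L).symm t) i, ?_⟩
    have h1 := congrArg (equivAdd L) (b.sum_repr ((equivAdd L).symm t))
    rw [AddEquiv.apply_symm_apply, map_sum] at h1
    refine h1.symm.trans (Finset.sum_congr rfl fun i _ => ?_)
    rw [equivAdd_smul_over]
    rfl
  have hcov : ⨆ i, CohB1.genLocus L (homOf (M := L) (s i)) = ⊤ := by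
    rw [eq_top_iff]
    intro x _
    obtain ⟨σ, hσ⟩ := NB_of_isVA k X hva x
    by_contra hcon
    rw [Opens.mem_iSup] at hcon
    push Not at hcon
    obtain ⟨c, hc⟩ := hs (sec σ ⊤)
    have h1 : Ega1.ModGerm.germ L ⊤ x trivial (sec σ ⊤) ∈ mStalk L x := by
      rw [hc, map_sum]
      refine Submodule.sum_mem _ fun i _ => ?_
      have h2 := Ega1.ModGerm.germ_smul L (U := ⊤) (x := x) trivial
        (ProjUP.toGlobal (X ↘ (Spec (CommRingCat.of k))) (c i) : Γ(X, ⊤)) (s i)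
      refine h2.symm ▸ ?_
      refine Submodule.smul_mem _ _ ((not_genAt_iff hL (s i) x).1 fun h => hcon i ((genAt_iff_mem (s i) x).1 h))
    exact (not_genAt_iff hL (sec σ ⊤) x).2 h1 ((genAt_sec_iff σ x).2 hσ)
  obtain ⟨f, hf, τ, hτ⟩ := Groth.Agent.Ega2.H18.PnExist.exists_map n (X ↘ (Spec (CommRingCat.of k))) L s hcov
  refine ⟨f, isClosedImmersion hX f hf ?_ ?_, hf⟩
  · obtain ⟨m, i, hi, hik, ⟨e⟩⟩ := hva
    exact ⟨m, i, hi, hik, ⟨e ≪≫ τ.symm⟩⟩
  · intro t
    obtain ⟨c, hc⟩ := hs (τ.hom.app ⊤ t)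
    refine ⟨c, ?_⟩
    have h1 : Function.Injective (τ.hom.app ⊤) := (ConcreteCategory.bijective_of_isIso _).1
    apply h1
    rw [hc]
    refine Eq.trans (Finset.sum_congr rfl fun i _ => ?_)
      (K654.AutPn.app_lcg (X ↘ (Spec (CommRingCat.of k))) τ.hom (fun i => ProjUP.pullSec f
        (Twist.twistProjSpace n k 1) (ProjUP.coord n k i)) c).symm
    dsimp only
    rw [hτ]

/-- **Castelnuovo's inequality** for very ample special modules. -/
theorem three_mul_le_of_isVA [CharZero k] (hX : Reg X) {L : X.Modules} (hL : PicF.IsInvertible L) (hva : IsVA k X L)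
    {r : ℕ} (h0 : h k X 0 (mk L hL) = r + 1) (h1 : 0 < h k X 1 (mk L hL)) : 3 * r ≤ h k X 0 (mk L hL * mk L hL) := by
  obtain ⟨n, i, hi, hik, ⟨e⟩⟩ := hva
  have e1 : mk L hL = mk (ProjSer.NN (n := n) (k := k) i) (ProjSer.inv_NN (n := n) (k := k) i) := by
    rw [mk_eq_iff]
    exact ⟨e.symm⟩
  rw [e1] at h0 h1 ⊢
  have hi' : IsClosedImmersion (Y := Proj (MvPolynomial.homogeneousSubmodule (Fin (n + 1)) k)) i := hi
  refine ProjSer.three_mul_le (n := n) (k := k) i hX hik (𝟙 X) ⟨⊤, ⟨genericPoint X, trivial⟩, inferInstance⟩ i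
    (Category.id_comp _) h0 h1

end K331.VACast
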